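import Cfsg.Agent.Known.AutPSL2

/-!
`PSL₂(2ⁿ)`: two Sylow `2`-subgroups generate, a Sylow `2`-subgroup has exponent `2`, the centre is trivial.
-/

set_option autoImplicit false
set_option linter.unusedSectionVars false

namespace Cfsg.Lib.BGN

open Matrix Subgroup Cfsg.Lib.Known.AutPSL2
open scoped Pointwise

variable {F : Type*} [Field F] [Fintype F]

local notation "S" => Matrix.SpecialLinearGroup (Fin 2) F
local notation "P" => Matrix.ProjectiveSpecialLinearGroup (Fin 2) F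

theorem conj_u_range (g : S) : ((u (F := F)).range.map (MulAut.conj (π g)).toMonoidHom = (u (F := F)).range) ∨
    ∃ x : F, (u (F := F)).range.map (MulAut.conj (π g)).toMonoidHom =
      (v (F := F)).range.map (MulAut.conj (π (uS x))).toMonoidHom := by
  by_cases hc : g.1 1 0 = 0
  · left
    have hd := g.2
    rw [det_fin_two, hc, mul_zero, sub_zero] at hd
    have ha : g.1 0 0 ≠ 0 := fun h => by rw [h, zero_mul] at hd; exact one_ne_zero hd.symm
    have key : ∀ x, π g * π (uS x) * (π g)⁻¹ = π (uS (g.1 0 0 ^ 2 * x)) := fun x => by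
      rw [← map_inv, ← map_mul, ← map_mul]
      congr 1
      refine sl_ext ?_
      rw [conj_uS, coe_uS, hc]
      simp
    ext y
    constructor
    · rintro ⟨_, ⟨x, rfl⟩, rfl⟩
      exact ⟨Multiplicative.ofAdd _, (key x.toAdd).symm⟩
    · rintro ⟨x, rfl⟩
      refine ⟨_, ⟨Multiplicative.ofAdd ((g.1 0 0 ^ 2)⁻¹ * x.toAdd), rfl⟩, ?_⟩
      change π g * π (uS _) * (π g)⁻¹ = π (uS x.toAdd)
      rw [key, toAdd_ofAdd, mul_inv_cancel_left₀ (pow_ne_zero _ ha)]
  · right
    refine ⟨g.1 0 0 / g.1 1 0, ?_⟩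
    set x₀ := g.1 0 0 / g.1 1 0 with hx₀
    set h : S := uS (-x₀) * g with hh
    have h00 : h.1 0 0 = 0 := by
      rw [hh, cmul, coe_uS]
      simp [Matrix.mul_apply, Fin.sum_univ_two, hx₀, hc]
    have h10 : h.1 1 0 = g.1 1 0 := by
      rw [hh, cmul, coe_uS]
      simp [Matrix.mul_apply, Fin.sum_univ_two]
    have key : ∀ x, π g * π (uS x) * (π g)⁻¹ =
        π (uS x₀) * π (vS (-(g.1 1 0 ^ 2 * x))) * (π (uS x₀))⁻¹ := fun x => by
      have e1 : h * uS x * h⁻¹ = vS (-(g.1 1 0 ^ 2 * x)) := by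
        refine sl_ext ?_
        rw [conj_uS, coe_vS, h00, h10]
        simp
      have e2 : g = uS x₀ * h := by
        rw [hh, ← mul_assoc, ← uS_add, add_neg_cancel,
          show (uS (0 : F) : S) = 1 from sl_ext (by rw [coe_uS, cone]; simp [one_fin_two]), one_mul]
      rw [← map_inv, ← map_inv, ← map_mul, ← map_mul, ← map_mul, ← map_mul, ← e1]
      congr 1
      rw [e2]
      group
    ext y
    constructor
    · rintro ⟨_, ⟨x, rfl⟩, rfl⟩
      exact ⟨_, ⟨Multiplicative.ofAdd (-(g.1 1 0 ^ 2 * x.toAdd)), rfl⟩, (key x.toAdd).symm⟩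
    · rintro ⟨_, ⟨z, rfl⟩, rfl⟩
      refine ⟨_, ⟨Multiplicative.ofAdd (-((g.1 1 0 ^ 2)⁻¹ * z.toAdd)), rfl⟩, ?_⟩
      change π g * π (uS _) * (π g)⁻¹ = π (uS x₀) * π (vS z.toAdd) * (π (uS x₀))⁻¹
      rw [key, toAdd_ofAdd, mul_neg, neg_neg, mul_inv_cancel_left₀ (pow_ne_zero _ hc)]

theorem exists_conj_eq {n : ℕ} (hn : 1 ≤ n) (hF : Fintype.card F = 2 ^ n) (R : Sylow 2 P) :
    ∃ g : P, (R : Subgroup P) = (u (F := F)).range.map (MulAut.conj g).toMonoidHom := by
  haveI : CharP F 2 := charP_of_card_eq_prime_pow hF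
  obtain ⟨U, hU⟩ := exists_sylow_u 2 hn hF
  obtain ⟨g, rfl⟩ := MulAction.exists_smul_eq P U R
  exact ⟨g, by rw [Sylow.coe_subgroup_smul, hU, ← conj_map]⟩

/-- two Sylow `2`-subgroups generate -/
theorem psl_sylow_sup {n : ℕ} (hn : 1 ≤ n) (hF : Fintype.card F = 2 ^ n) (R R' : Sylow 2 P)
    (hne : (R : Subgroup P) ≠ R') : (R : Subgroup P) ⊔ R' = ⊤ := by
  obtain ⟨g, hg⟩ := exists_conj_eq hn hF R
  obtain ⟨g', hg'⟩ := exists_conj_eq hn hF R'
  obtain ⟨m, hm⟩ := QuotientGroup.mk_surjective (g⁻¹ * g')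
  set U := (u (F := F)).range
  have e : (MulAut.conj g).toMonoidHom.comp (MulAut.conj (g⁻¹ * g')).toMonoidHom = (MulAut.conj g').toMonoidHom := by
    ext z; simp [mul_assoc]
  rw [hg, hg', ← e, ← Subgroup.map_map, ← Subgroup.map_sup]
  rcases conj_u_range m with h | ⟨x, h⟩
  · refine absurd ?_ hne
    rw [hg, hg', ← e, ← Subgroup.map_map, show g⁻¹ * g' = π m from hm.symm, h]
  · rw [show g⁻¹ * g' = π m from hm.symm, h, ← map_top_of_surjective (MulAut.conj g).toMonoidHom (MulAut.conj g).surjective]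
    congr 1
    refine closure_eq_top _ (fun y => mem_sup_left ⟨Multiplicative.ofAdd y, rfl⟩) fun y => ?_
    have hu : π (uS x) ∈ U ⊔ (v (F := F)).range.map (MulAut.conj (π (uS x))).toMonoidHom :=
      mem_sup_left ⟨Multiplicative.ofAdd x, rfl⟩
    have h1 : π (uS x) * π (vS y) * (π (uS x))⁻¹ ∈
        U ⊔ (v (F := F)).range.map (MulAut.conj (π (uS x))).toMonoidHom :=
      mem_sup_right ⟨π (vS y), ⟨Multiplicative.ofAdd y, rfl⟩, rfl⟩
    simpa [mul_assoc] using mul_mem (mul_mem (inv_mem hu) h1) hu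

/-- exponent two -/
theorem psl_sylow_sq {n : ℕ} (hn : 1 ≤ n) (hF : Fintype.card F = 2 ^ n) (R : Sylow 2 P) {a : P}
    (ha : a ∈ (R : Subgroup P)) : a * a = 1 := by
  haveI : CharP F 2 := charP_of_card_eq_prime_pow hF
  obtain ⟨g, hg⟩ := exists_conj_eq hn hF R
  rw [hg] at ha
  obtain ⟨_, ⟨x, rfl⟩, rfl⟩ := ha
  rw [← map_mul, ← map_mul, show x * x = 1 from Multiplicative.toAdd.injective (CharTwo.add_self_eq_zero x.toAdd),
    map_one, map_one]

/-- trivial centre -/
theorem psl_center_eq_bot {n : ℕ} (hF : Fintype.card F = 2 ^ n) : center P = ⊥ := by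
  haveI : CharP F 2 := charP_of_card_eq_prime_pow hF
  rw [eq_bot_iff]
  intro z hz
  obtain ⟨M, rfl⟩ := QuotientGroup.mk'_surjective (center S) z
  have hone : ∀ c : F, c * c = 1 → c = 1 := fun c hc => by
    have : (c + 1) * (c + 1) = 0 := by rw [CharTwo.add_mul_self, hc, one_mul, CharTwo.add_self_eq_zero]
    exact CharTwo.add_eq_zero.1 (mul_self_eq_zero.1 this)
  have key : ∀ N : S, (M : Matrix (Fin 2) (Fin 2) F) * N = (N : Matrix (Fin 2) (Fin 2) F) * M := by
    intro N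
    obtain ⟨c, hc, h⟩ := π_eq (M := N * M) (N := M * N) (by
      rw [map_mul, map_mul]; exact mem_center_iff.1 hz _)
    rw [cmul, cmul, hone c hc, one_smul] at h
    exact h
  have h1 := key (uS 1)
  have h2 := key (vS 1)
  have h10 : (M : Matrix (Fin 2) (Fin 2) F) 1 0 = 0 := by
    have := congrFun (congrFun h1 0) 0
    simpa [coe_uS, Matrix.mul_apply, Fin.sum_univ_two] using this
  have h01 : (M : Matrix (Fin 2) (Fin 2) F) 0 1 = 0 := by
    have := congrFun (congrFun h2 0) 0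
    simpa [coe_vS, Matrix.mul_apply, Fin.sum_univ_two] using this
  have hd : (M : Matrix (Fin 2) (Fin 2) F) 0 0 = (M : Matrix (Fin 2) (Fin 2) F) 1 1 := by
    have := congrFun (congrFun h1 0) 1
    simpa [coe_uS, Matrix.mul_apply, Fin.sum_univ_two, h01, h10] using this
  have hdet := M.2
  rw [det_fin_two, h01, h10, mul_zero, sub_zero, ← hd] at hdet
  have h00 := hone _ hdet
  rw [mem_bot]
  have : M = 1 := sl_ext (by
    rw [cone]
    ext i j
    fin_cases i <;> fin_cases j <;> simp [h01, h10, h00, ← hd])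
  rw [this, map_one]

end Cfsg.Lib.BGN
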