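import Cfsg.Agent.Components.BGN.Path
import Cfsg.Agent.Components.BGN.PSL
import Cfsg.Agent.PushUp.Baumann
import Cfsg.Agent.SolvStruct.SplitResidual
import Cfsg.Prelude.Def_EvenTechniques
import Cfsg.Prelude.Def_CaseTheorems

/-!
Pushing up over `L₂(2ⁿ)` (Baumann, Glauberman, Niles): the residual is a near component.
-/

set_option autoImplicit false
set_option linter.unusedSectionVars false
set_option linter.style.haveILetI false

namespace Cfsg.Lib.BGN

open Subgroup
open scoped commutatorElement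

universe u v

variable {G : Type u} [Group G] [Finite G]

/-- a step of coprime action, modulo a normal subgroup -/
theorem coprime_step {N : Subgroup G} [N.Normal] {w z d : G} (hw : w * w = 1) (hd : (orderOf d).Coprime 2)
    (hz : d * z * d⁻¹ = w * z) (hwd : ⁅w, d⁆ ∈ N) : w ∈ N := by
  set π := QuotientGroup.mk' N with hπ
  have hc : Commute (π w) (π d) := by
    rw [← commutatorElement_eq_one_iff_commute, ← map_commutatorElement]
    exact (QuotientGroup.eq_one_iff _).2 hwd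
  have hz' : π d * π z * (π d)⁻¹ = π w * π z := by rw [← map_inv, ← map_mul, ← map_mul, hz, map_mul]
  have key : ∀ k : ℕ, π d ^ k * π z * (π d ^ k)⁻¹ = π w ^ k * π z := by
    intro k
    induction k with
    | zero => simp
    | succ k ih =>
      calc π d ^ (k + 1) * π z * (π d ^ (k + 1))⁻¹
          = π d * (π d ^ k * π z * (π d ^ k)⁻¹) * (π d)⁻¹ := by rw [pow_succ']; group
        _ = π d * π w ^ k * (π d)⁻¹ * (π d * π z * (π d)⁻¹) := by rw [ih]; group
        _ = π w ^ k * (π w * π z) := by rw [hz', (hc.pow_left k).symm.eq]; group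
        _ = π w ^ (k + 1) * π z := by rw [pow_succ]; group
  have h := key (orderOf d)
  rw [← map_pow, pow_orderOf_eq_one, map_one, one_mul, inv_one, mul_one, right_eq_mul] at h
  have h2 : π w ^ 2 = 1 := by rw [pow_two, ← map_mul, hw, map_one]
  have h1 := Nat.eq_one_of_dvd_coprimes hd (orderOf_dvd_of_pow_eq_one h) (orderOf_dvd_of_pow_eq_one h2)
  exact (QuotientGroup.eq_one_iff _).1 (orderOf_eq_one_iff.1 h1)

/-- the hypotheses, with the facts derived from them -/
structure Nat2 (G : Type u) [Group G] (F : Type v) [Field F] [Fintype F] where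
  c : Cfsg.Lib.PushUp.Ctx 2 G F
  hker : c.ψ.ker = Cfsg.pCore 2 G
  hMn : c.M = normalizer ((c.S : Subgroup G) : Set G)
  hT : ∀ C : Subgroup ↥(c.S : Subgroup G), C.Characteristic → C ≠ ⊥ →
      ¬ ((C.map (c.S : Subgroup G).subtype).Normal)

section Sylow

variable {F : Type v} [Field F] [Fintype F] (c : Cfsg.Lib.PushUp.Ctx 2 G F) (hker : c.ψ.ker = Cfsg.pCore 2 G)

include hker

theorem exists_comap {x : G} : ∃ R : Sylow 2 (Matrix.ProjectiveSpecialLinearGroup (Fin 2) F),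
    (cj x (c.S : Subgroup G)).map c.ψ = (R : Subgroup _) ∧ (R : Subgroup _).comap c.ψ = cj x (c.S : Subgroup G) := by
  haveI : Finite (Matrix.ProjectiveSpecialLinearGroup (Fin 2) F) := Finite.of_surjective c.ψ c.hψ
  set T : Sylow 2 G := MulAut.conj x • c.S
  have hT : (T : Subgroup G) = cj x (c.S : Subgroup G) := rfl
  refine ⟨T.mapSurjective c.hψ, by rw [Sylow.coe_mapSurjective, hT], ?_⟩
  rw [Sylow.coe_mapSurjective, comap_map_eq, hker, hT, sup_eq_left]
  haveI := c.core_normal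
  exact (Cfsg.Lib.Thompson.le_sylow_of_normal (Cfsg.Lib.Components.pCore_normal_and_isPGroup 2).2 T).trans hT.le

theorem sylow_sup {x : G} (hx : cj x (c.S : Subgroup G) ≠ (c.S : Subgroup G)) :
    (c.S : Subgroup G) ⊔ cj x (c.S : Subgroup G) = ⊤ := by
  obtain ⟨R, hR, hR'⟩ := exists_comap c hker (x := x)
  obtain ⟨R₀, hR₀, hR₀'⟩ := exists_comap c hker (x := (1 : G))
  rw [cj_one] at hR₀ hR₀'
  have hne : (R₀ : Subgroup (Matrix.ProjectiveSpecialLinearGroup (Fin 2) F)) ≠ (R : Subgroup (Matrix.ProjectiveSpecialLinearGroup (Fin 2) F)) :=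
    fun h => hx (by rw [← hR', ← h, hR₀'])
  have h1 := psl_sylow_sup c.hn c.hF R₀ R hne
  rw [← hR₀, ← hR, ← Subgroup.map_sup] at h1
  have h2 := congrArg (Subgroup.comap c.ψ) h1
  rw [comap_map_eq, comap_top, hker, sup_eq_left.2 (c.core_le.trans le_sup_left)] at h2
  exact h2

theorem sylow_sq {a : G} (ha : a ∈ (c.S : Subgroup G)) : a * a ∈ Cfsg.pCore 2 G := by
  obtain ⟨R, hR, -⟩ := exists_comap c hker (x := (1 : G))
  rw [cj_one] at hR
  rw [← hker, MonoidHom.mem_ker, map_mul]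
  exact psl_sylow_sq c.hn c.hF R (hR.le (mem_map_of_mem _ ha))

theorem sylow_comm {a b : G} (ha : a ∈ (c.S : Subgroup G)) (hb : b ∈ (c.S : Subgroup G)) :
    ⁅a, b⁆ ∈ Cfsg.pCore 2 G := by
  obtain ⟨R, hR, -⟩ := exists_comap c hker (x := (1 : G))
  rw [cj_one] at hR
  have hsq := fun {z : G} (hz : z ∈ (c.S : Subgroup G)) =>
    inv_eq_of_mul_eq_one_right (psl_sylow_sq c.hn c.hF R (hR.le (mem_map_of_mem c.ψ hz)))
  rw [← hker, MonoidHom.mem_ker, map_commutatorElement, commutatorElement_eq_one_iff_mul_comm]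
  have h := hsq (mul_mem ha hb)
  rw [map_mul, mul_inv_rev, hsq ha, hsq hb] at h
  exact h.symm

theorem sylow_ti {x : G} (hx : cj x (c.S : Subgroup G) ≠ (c.S : Subgroup G)) {a : G}
    (ha : a ∈ (c.S : Subgroup G)) (hn : a ∈ normalizer (cj x (c.S : Subgroup G) : Set G)) :
    a ∈ Cfsg.pCore 2 G := by
  set T : Sylow 2 G := MulAut.conj x • c.S
  have hT : (T : Subgroup G) = cj x (c.S : Subgroup G) := rfl
  have haT : a ∈ (T : Subgroup G) := by
    have h1 : IsPGroup 2 ((T : Subgroup G) ⊔ zpowers a : Subgroup G) :=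
      IsPGroup.to_sup_of_normal_left' T.2 (c.S.2.to_le (zpowers_le.2 ha)) (zpowers_le.2 (hT.symm ▸ hn))
    exact (T.3 h1 le_sup_left).le (mem_sup_right (mem_zpowers a))
  set D := (c.S : Subgroup G) ⊓ cj x (c.S : Subgroup G) with hD
  haveI := c.core_normal
  have hQD : Cfsg.pCore 2 G ≤ D :=
    le_inf c.core_le ((Cfsg.Lib.Thompson.le_sylow_of_normal (Cfsg.Lib.Components.pCore_normal_and_isPGroup 2).2 T).trans
      hT.le)
  have hnD : ∀ {s d : G}, s ∈ (c.S : Subgroup G) → d ∈ (c.S : Subgroup G) → d ∈ D → s * d * s⁻¹ ∈ D := by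
    intro s d hs hd hdD
    rw [show s * d * s⁻¹ = ⁅s, d⁆ * d by rw [commutatorElement_def]; group]
    exact mul_mem (hQD (sylow_comm c hker hs hd)) hdD
  haveI : D.Normal := by
    rw [← normalizer_eq_top_iff, eq_top_iff, ← sylow_sup c hker hx]
    refine sup_le (le_normalizer_of_forall fun s hs => ?_) (le_normalizer_of_forall fun t ht => ?_)
    · rintro _ ⟨d, hd, rfl⟩
      exact hnD hs hd.1 hd
    · rintro _ ⟨d, hd, rfl⟩
      change t * d * t⁻¹ ∈ D
      have hs := mem_cj.1 ht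
      have hd2 := mem_cj.1 hd.2
      rw [show t * d * t⁻¹ = (x * ⁅x⁻¹ * t * x, x⁻¹ * d * x⁆ * x⁻¹) * d by
        rw [commutatorElement_def]; group]
      exact mul_mem (hQD (Normal.conj_mem inferInstance _ (sylow_comm c hker hs hd2) x)) hd
  exact c.le_core (c.S.2.to_le inf_le_left) ⟨ha, hT.le haT⟩

end Sylow

/-- `ι` and the automorphisms of `S` as permutations -/
theorem exists_perm (S : Subgroup G) (α : MulAut ↥S) :
    ∃ σ : Equiv.Perm G, σ ∈ normalizer (S.map (MulAction.toPermHom G G) : Set (Equiv.Perm G)) ∧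
      ∀ s : ↥S, σ * MulAction.toPermHom G G (s : G) * σ⁻¹ = MulAction.toPermHom G G (α s : G) := by
  let r : G → G := fun x => (QuotientGroup.mk x⁻¹ : G ⧸ S).out
  have hr : ∀ x, x * r x ∈ S := fun x => by
    obtain ⟨h, hh⟩ := QuotientGroup.mk_out_eq_mul S x⁻¹
    simp only [r, hh]
    simp
  let f : G → G := fun x => (α ⟨x * r x, hr x⟩ : G) * (r x)⁻¹
  have hfs : ∀ (s : ↥S) (x : G), f ((s : G) * x) = (α s : G) * f x := by
    intro s x
    have e : r ((s : G) * x) = r x := by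
      simp only [r]
      congr 1
      rw [mul_inv_rev, QuotientGroup.mk_mul_of_mem _ (inv_mem s.2)]
    have e2 : (⟨(s : G) * x * r ((s : G) * x), hr _⟩ : ↥S) = s * ⟨x * r x, hr x⟩ :=
      Subtype.ext (by simp [e, mul_assoc])
    simp only [f]
    rw [e2, map_mul, Subgroup.coe_mul, e, mul_assoc]
  have hinj : Function.Injective f := by
    intro x y h
    simp only [f] at h
    have hmk : (QuotientGroup.mk x⁻¹ : G ⧸ S) = QuotientGroup.mk y⁻¹ := by
      have hx : ((r x : G) : G ⧸ S) = QuotientGroup.mk x⁻¹ := Quotient.out_eq _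
      have hy : ((r y : G) : G ⧸ S) = QuotientGroup.mk y⁻¹ := Quotient.out_eq _
      rw [← hx, ← hy]
      have h' := congrArg Inv.inv h
      rw [mul_inv_rev, mul_inv_rev, inv_inv, inv_inv] at h'
      rw [← QuotientGroup.mk_mul_of_mem (r x) (inv_mem (α ⟨x * r x, hr x⟩).2), h',
        QuotientGroup.mk_mul_of_mem (r y) (inv_mem (α ⟨y * r y, hr y⟩).2)]
    have e : r x = r y := by simp only [r, hmk]
    have h' := mul_right_cancel (h.trans (congrArg (fun t => (α ⟨y * r y, hr y⟩ : G) * t⁻¹) e.symm))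
    have h2 := congrArg Subtype.val (α.injective (Subtype.ext h'))
    simp only at h2
    rwa [e, mul_left_inj] at h2
  let σ : Equiv.Perm G := Equiv.ofBijective f (Finite.injective_iff_bijective.1 hinj)
  have hσ : ∀ s : ↥S, σ * MulAction.toPermHom G G (s : G) * σ⁻¹ = MulAction.toPermHom G G (α s : G) := by
    intro s
    rw [mul_inv_eq_iff_eq_mul]
    exact Equiv.ext fun x => hfs s x
  refine ⟨σ, ?_, hσ⟩
  refine mem_normalizer_iff.2 fun w => ⟨?_, ?_⟩
  · rintro ⟨s, hs, rfl⟩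
    exact ⟨_, (α ⟨s, hs⟩).2, (hσ ⟨s, hs⟩).symm⟩
  · rintro ⟨s, hs, he⟩
    refine ⟨_, (α.symm ⟨s, hs⟩).2, ?_⟩
    have h := hσ (α.symm ⟨s, hs⟩)
    rw [MulEquiv.apply_symm_apply] at h
    simp only [he] at h
    exact mul_left_cancel (mul_right_cancel h)

/-- the left regular representation -/
abbrev ι : G →* Equiv.Perm G := MulAction.toPermHom G G

theorem ι_inj : Function.Injective (ι (G := G)) := fun a b h => by
  simpa using Equiv.congr_fun h 1

namespace Nat2

variable {F : Type v} [Field F] [Fintype F] (d : Nat2 G F)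

include d

/-- shorthand -/
abbrev S : Subgroup G := (d.c.S : Subgroup G)

theorem faith (K : Subgroup (Equiv.Perm G)) (hK : K ≤ d.S.map ι)
    (h1 : (⊤ : Subgroup G).map ι ≤ normalizer (K : Set (Equiv.Perm G)))
    (h2 : normalizer (d.S.map ι : Set (Equiv.Perm G)) ≤ normalizer (K : Set (Equiv.Perm G))) : K = ⊥ := by
  set K₀ := K.comap ι with hK₀
  have hle : K₀ ≤ d.S := fun x hx => by
    obtain ⟨s, hs, he⟩ := hK hx
    rwa [← ι_inj he]
  haveI hn : K₀.Normal := ⟨fun x hx g => by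
    have := (mem_normalizer_iff.1 (h1 (mem_map_of_mem ι (mem_top g))) (ι x)).1 hx
    rw [← map_inv, ← map_mul, ← map_mul] at this
    exact this⟩
  set C := K₀.subgroupOf d.S with hC
  have hchar : C.Characteristic := by
    rw [characteristic_iff_map_le]
    intro α
    rintro _ ⟨s, hs, rfl⟩
    obtain ⟨σ, hσ, he⟩ := exists_perm d.S α
    have := (mem_normalizer_iff.1 (h2 hσ) _).1 (show ι (s : G) ∈ K from hs)
    rw [he] at this
    exact this
  have hmap : C.map d.S.subtype = K₀ := by rw [hC, subgroupOf_map_subtype, inf_eq_left.2 hle]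
  have hCb : C = ⊥ := by_contra fun h => d.hT C hchar h (by rw [hmap]; exact hn)
  rw [hCb, Subgroup.map_bot] at hmap
  rw [eq_bot_iff]
  intro k hk
  obtain ⟨s, hs, rfl⟩ := hK hk
  have : s ∈ (⊥ : Subgroup G) := hmap.ge hk
  rw [mem_bot] at this
  rw [this, map_one]
  exact one_mem _

theorem normalizer_map_comm {σ : Equiv.Perm G} (hσ : σ ∈ normalizer (d.S.map ι : Set (Equiv.Perm G)))
    {w : Equiv.Perm G} (hw : w ∈ centralizer (d.S.map ι : Set (Equiv.Perm G))) :
    σ * w * σ⁻¹ ∈ centralizer (d.S.map ι : Set (Equiv.Perm G)) := by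
  refine mem_centralizer_iff.2 fun s hs => ?_
  have h1 : σ⁻¹ * s * σ ∈ d.S.map ι := by
    simpa using (mem_normalizer_iff.1 (inv_mem hσ) s).1 hs
  have e := mem_centralizer_iff.1 hw _ h1
  calc s * (σ * w * σ⁻¹) = σ * ((σ⁻¹ * s * σ) * w) * σ⁻¹ := by group
    _ = σ * (w * (σ⁻¹ * s * σ)) * σ⁻¹ := by rw [e]
    _ = σ * w * σ⁻¹ * s := by group

theorem S_ne_bot : ¬ d.S ≤ Cfsg.pCore 2 G := by
  intro h
  haveI : Finite (Matrix.ProjectiveSpecialLinearGroup (Fin 2) F) := Finite.of_surjective d.c.ψ d.c.hψ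
  obtain ⟨R, hR, -⟩ := exists_comap d.c d.hker (x := (1 : G))
  rw [cj_one, (Subgroup.map_eq_bot_iff _).2 (h.trans d.hker.ge)] at hR
  haveI : CharP F 2 := charP_of_card_eq_prime_pow d.c.hF
  obtain ⟨U, hU⟩ := Cfsg.Lib.Known.AutPSL2.exists_sylow_u 2 d.c.hn d.c.hF
  have h1 : Nat.card (R : Subgroup (Matrix.ProjectiveSpecialLinearGroup (Fin 2) F)) = Nat.card (U : Subgroup (Matrix.ProjectiveSpecialLinearGroup (Fin 2) F)) := by
    rw [R.card_eq_multiplicity, U.card_eq_multiplicity]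
  rw [← hR, card_bot, hU,
    ← Nat.card_congr (MonoidHom.ofInjective (Cfsg.Lib.Known.AutPSL2.u_injective (F := F))).toEquiv,
    Nat.card_congr Multiplicative.toAdd, Nat.card_eq_fintype_card, d.c.hF] at h1
  exact absurd h1.symm (Nat.one_lt_pow (by have := d.c.hn; omega) one_lt_two).ne'

theorem exists_move : ∃ y : G, cj y d.S ≠ d.S := by
  by_contra h
  push Not at h
  haveI : d.S.Normal := ⟨fun s hs g => (h g).le (conj_mem_cj hs)⟩
  exact d.S_ne_bot (d.c.le_core d.c.S.2)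

theorem Zs_ne_bot : d.c.Zs ≠ ⊥ := by
  intro h
  have hne : d.S ≠ ⊥ := fun h' => d.S_ne_bot (h' ▸ bot_le)
  haveI : Nontrivial ↥d.S := (nontrivial_iff_ne_bot _).2 hne
  obtain ⟨z, hz⟩ := @exists_ne _ (IsPGroup.center_nontrivial d.c.S.2) 1
  refine hz (Subtype.ext (Subtype.ext ?_))
  have : ((z : ↥d.S) : G) ∈ d.c.Zs := ⟨z.1.2, mem_centralizer_iff.2 fun s hs =>
    congrArg Subtype.val (mem_center_iff.1 z.2 ⟨s, hs⟩)⟩
  rw [h, mem_bot] at this
  exact this

theorem exists_case : ∃ A, d.c.Case A := by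
  rcases d.c.cases with h | h | h
  · exfalso
    refine d.Zs_ne_bot ?_
    have hb := d.faith (d.c.Zs.map ι) (map_mono inf_le_left) ?_ ?_
    · exact (map_eq_bot_iff_of_injective _ ι_inj).1 hb
    · refine le_normalizer_of_forall fun g hg => ?_
      obtain ⟨g, -, rfl⟩ := hg
      rintro _ ⟨_, ⟨z, hz, rfl⟩, rfl⟩
      refine ⟨z, hz, ?_⟩
      change ι z = ι g * ι z * (ι g)⁻¹
      rw [← map_mul, mem_center_iff.1 (h hz) g, map_mul, mul_inv_cancel_right]
    · refine le_normalizer_of_forall fun σ hσ => ?_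
      rintro _ ⟨_, ⟨z, hz, rfl⟩, rfl⟩
      obtain ⟨w, hw, he⟩ := (mem_normalizer_iff.1 hσ _).1 (mem_map_of_mem ι hz.1)
      refine ⟨w, ⟨hw, mem_centralizer_iff.2 fun s hs => ι_inj ?_⟩, he⟩
      rw [map_mul, map_mul, he]
      refine mem_centralizer_iff.1 (d.normalizer_map_comm hσ (mem_centralizer_iff.2 ?_)) _ (mem_map_of_mem ι hs)
      rintro _ ⟨t, ht, rfl⟩
      rw [← map_mul, ← map_mul, mem_centralizer_iff.1 hz.2 t ht]
  · exfalso
    haveI := h
    set C := d.S ⊓ centralizer (d.c.Zj : Set G) with hC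
    have hZC : d.c.Zs ≤ C := fun z hz => ⟨hz.1, mem_centralizer_iff.2 fun j hj =>
      mem_centralizer_iff.1 hz.2 j (Cfsg.Lib.Fusion.thompsonAOf_le _ hj.1)⟩
    have hb := d.faith (C.map ι) (map_mono inf_le_left) ?_ ?_
    · exact d.Zs_ne_bot (le_bot_iff.1 (hZC.trans ((map_eq_bot_iff_of_injective _ ι_inj).1 hb).le))
    · exact (map_mono (normalizer_eq_top (H := C)).ge).trans (le_normalizer_map _)
    · refine le_normalizer_of_forall fun σ hσ => ?_
      have hinj : Set.InjOn (MulAut.conj σ).toMonoidHom (d.S.map ι : Subgroup (Equiv.Perm G)) :=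
        (MulAut.conj σ).injective.injOn
      have hj1 := Cfsg.Lib.ZJ.centerThompsonAOf_map_injOn (f := (ι : G →* Equiv.Perm G)) (D := d.S) ι_inj.injOn
      have hj2 := Cfsg.Lib.ZJ.centerThompsonAOf_map_injOn hinj
      have hSσ : (d.S.map ι).map (MulAut.conj σ).toMonoidHom = d.S.map ι := cj_eq_of_mem hσ
      rw [hSσ, ← hj1] at hj2
      rintro _ ⟨_, ⟨z, hz, rfl⟩, rfl⟩
      obtain ⟨w, hw, he⟩ := (mem_normalizer_iff.1 hσ _).1 (mem_map_of_mem ι hz.1)
      refine ⟨w, ⟨hw, mem_centralizer_iff.2 fun j hj => ι_inj ?_⟩, he⟩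
      rw [map_mul, map_mul, he]
      obtain ⟨_, ⟨j', hj', rfl⟩, hjeq⟩ := hj2.ge (mem_map_of_mem ι hj)
      rw [← hjeq]
      change σ * ι j' * σ⁻¹ * (σ * ι z * σ⁻¹) = σ * ι z * σ⁻¹ * (σ * ι j' * σ⁻¹)
      calc σ * ι j' * σ⁻¹ * (σ * ι z * σ⁻¹) = σ * ι (j' * z) * σ⁻¹ := by rw [map_mul]; group
        _ = σ * ι (z * j') * σ⁻¹ := by rw [mem_centralizer_iff.1 hz.2 j' hj']
        _ = _ := by rw [map_mul]; group
  · exact h

/-- `Ω₁` of the closure of `Z(S)` -/
abbrev W : Subgroup G := Cfsg.Lib.PushUp.omegaSub 2 d.c.Vc d.c.Vc_comm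

theorem W_sq {w : G} (hw : w ∈ d.W) : w * w = 1 := by rw [← pow_two]; exact hw.2

theorem W_normal : d.W.Normal := d.exists_case.choose_spec.W_normal

theorem W_le_core : d.W ≤ Cfsg.pCore 2 G := fun _ hw => (d.c.Vc_le hw.1).1

theorem core_le_centralizer : Cfsg.pCore 2 G ≤ centralizer (d.W : Set G) := fun q hq =>
  mem_centralizer_iff.2 fun w hw => (mem_centralizer_iff.1 (d.c.Vc_le hw.1).2 q hq).symm

theorem inf_centralizer_S : d.W ⊓ centralizer (d.S : Set G) = d.W ⊓ d.c.Zs :=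
  le_antisymm (fun w hw => ⟨hw.1, d.c.core_le (d.W_le_core hw.1), hw.2⟩) (fun w hw => ⟨hw.1, hw.2.2⟩)

theorem card_W : Nat.card d.W = 2 ^ d.c.n * Nat.card ↥(d.W ⊓ centralizer (d.S : Set G)) := by
  obtain ⟨A, hA⟩ := d.exists_case
  rw [d.inf_centralizer_S]
  exact hA.main.2.1

theorem card_S : Nat.card d.S = 2 ^ d.c.n * Nat.card (Cfsg.pCore 2 G) := by
  obtain ⟨A, hA⟩ := d.exists_case
  haveI := d.c.core_normal
  refine le_antisymm ((d.c.card_le _ le_rfl).trans (Nat.mul_le_mul_left _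
    (Nat.card_mono (Set.toFinite _) fun x hx => hx.2))) ?_
  have h6 : (2 : ℕ) ^ d.c.n ≤ Nat.card ((d.S).map d.c.ψ) := by
    obtain ⟨R, hR, -⟩ := exists_comap d.c d.hker (x := (1 : G))
    rw [cj_one] at hR
    haveI : Finite (Matrix.ProjectiveSpecialLinearGroup (Fin 2) F) := Finite.of_surjective d.c.ψ d.c.hψ
    haveI : CharP F 2 := charP_of_card_eq_prime_pow d.c.hF
    obtain ⟨U, hU⟩ := Cfsg.Lib.Known.AutPSL2.exists_sylow_u 2 d.c.hn d.c.hF
    rw [hR, R.card_eq_multiplicity, ← U.card_eq_multiplicity, hU,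
      ← Nat.card_congr (MonoidHom.ofInjective (Cfsg.Lib.Known.AutPSL2.u_injective (F := F))).toEquiv,
      Nat.card_congr Multiplicative.toAdd, Nat.card_eq_fintype_card, d.c.hF]
  rw [Cfsg.Lib.FF.card_eq_map_mul d.c.ψ d.S, d.hker, inf_eq_right.2 d.c.core_le]
  exact Nat.mul_le_mul_right _ h6

theorem centralizer_W : centralizer (d.W : Set G) ≤ Cfsg.pCore 2 G := by
  obtain ⟨A, hA⟩ := d.exists_case
  haveI := d.W_normal
  haveI : (centralizer (d.W : Set G)).Normal := inferInstance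
  set N := centralizer (d.W : Set G) with hN
  have hNM : N ≤ normalizer (d.S : Set G) := hA.W_cent.trans d.hMn.le
  intro g hg
  rw [← d.hker, MonoidHom.mem_ker, ← mem_bot, ← psl_center_eq_bot d.c.hF]
  refine mem_center_iff.2 fun z => ?_
  obtain ⟨z, rfl⟩ := d.c.hψ z
  have h1 : ∀ x : G, cj x d.S ≤ (centralizer ({d.c.ψ g} : Set (Matrix.ProjectiveSpecialLinearGroup (Fin 2) F))).comap d.c.ψ := by
    rintro x _ ⟨s, hs', rfl⟩
    have hs : s ∈ d.S := hs'
    rw [mem_comap, mem_centralizer_singleton_iff, ← map_mul, ← map_mul]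
    change d.c.ψ ((x * s * x⁻¹) * g) = d.c.ψ (g * (x * s * x⁻¹))
    have hg' : x⁻¹ * g * x ∈ N := by simpa using Normal.conj_mem (inferInstance : N.Normal) g hg x⁻¹
    set g' := x⁻¹ * g * x
    have hc : ⁅g', s⁆ ∈ Cfsg.pCore 2 G := by
      refine d.c.inf_le_core N hA.W_cent ⟨?_, ?_⟩
      · rw [commutatorElement_def]
        exact d.S.mul_mem ((mem_normalizer_iff.1 (hNM hg') s).1 hs) (d.S.inv_mem hs)
      · rw [commutatorElement_def, mul_assoc, mul_assoc]
        exact mul_mem hg' (by simpa [mul_assoc] using Normal.conj_mem (inferInstance : N.Normal) _ (inv_mem hg') s)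
    haveI := d.c.core_normal
    have hc' : ⁅g, x * s * x⁻¹⁆ ∈ d.c.ψ.ker := by
      rw [d.hker, show ⁅g, x * s * x⁻¹⁆ = x * ⁅g', s⁆ * x⁻¹ by
        simp only [g', commutatorElement_def]; group]
      exact Normal.conj_mem inferInstance _ hc x
    rw [MonoidHom.mem_ker, map_commutatorElement, commutatorElement_eq_one_iff_mul_comm] at hc'
    rw [map_mul d.c.ψ (x * s * x⁻¹) g, map_mul d.c.ψ g]
    exact hc'.symm
  obtain ⟨y, hy⟩ := d.exists_move
  have htop := sylow_sup d.c d.hker hy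
  have h2 := sup_le ((cj_one d.S).ge.trans (h1 1)) (h1 y)
  rw [htop] at h2
  exact mem_centralizer_singleton_iff.1 (h2 (mem_top z))

theorem fix_le {a : G} (ha : a ∈ d.S) (haQ : a ∉ Cfsg.pCore 2 G) :
    d.W ⊓ centralizer ({a} : Set G) ≤ centralizer (d.S : Set G) := by
  obtain ⟨A, hA⟩ := d.exists_case
  haveI := d.W_normal
  have hb := d.c.elem_bound d.W hA.W_elem hA.W_cent ha haQ
  rw [d.card_W] at hb
  have hle : d.W ⊓ centralizer (d.S : Set G) ≤ d.W ⊓ centralizer ({a} : Set G) := fun w hw =>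
    ⟨hw.1, mem_centralizer_singleton_iff.2 (mem_centralizer_iff.1 hw.2 a ha).symm⟩
  rw [← Subgroup.eq_of_le_of_card_ge hle (Nat.le_of_mul_le_mul_left hb (pow_pos two_pos _))]
  exact inf_le_right

theorem comm_le : ⁅d.W, d.S⁆ ≤ centralizer (d.S : Set G) := by
  haveI := d.W_normal
  rw [commutator_le]
  intro w hw s hs
  by_cases hsQ : s ∈ Cfsg.pCore 2 G
  · rw [commutatorElement_eq_one_iff_mul_comm.2 (mem_centralizer_iff.1 (d.core_le_centralizer hsQ) w hw)]
    exact one_mem _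
  refine d.fix_le hs hsQ ⟨?_, mem_centralizer_singleton_iff.2 ?_⟩
  · rw [commutatorElement_def, mul_assoc, mul_assoc]
    exact mul_mem hw (by simpa [mul_assoc] using Normal.conj_mem (inferInstance : d.W.Normal) _ (inv_mem hw) s)
  · set w' := s * w * s⁻¹ with hw'
    have hw'W : w' ∈ d.W := Normal.conj_mem inferInstance _ hw s
    have e1 : ⁅w, s⁆ = w * w' := by
      rw [commutatorElement_def, inv_eq_of_mul_eq_one_right (d.W_sq hw),
        show w * w' = w * s * w * s⁻¹ by rw [hw']; group]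
    have e2 : s * w' * s⁻¹ = w := by
      have e := mem_centralizer_iff.1 (d.core_le_centralizer (sylow_sq d.c d.hker hs)) w hw
      calc s * w' * s⁻¹ = (s * s) * w * (s * s)⁻¹ := by rw [hw']; group
        _ = w := by rw [← e]; group
    have e3 : w * w' = w' * w := Cfsg.Lib.PushUp.comm_of d.c.Vc_comm hw.1 hw'W.1
    calc ⁅w, s⁆ * s = s * (s⁻¹ * ⁅w, s⁆ * s) := by group
      _ = s * ⁅w, s⁆ := by
        have : s * ⁅w, s⁆ * s⁻¹ = ⁅w, s⁆ := by
          rw [e1, show s * (w * w') * s⁻¹ = (s * w * s⁻¹) * (s * w' * s⁻¹) by group, ← hw', e2, e3]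
        nth_rw 1 [← this]
        group

theorem not_comm_central : ¬ ⁅d.W, d.S⁆ ≤ center G := by
  intro h
  haveI := d.W_normal
  set L : Subgroup G :=
    { carrier := {g | ∀ w ∈ d.W, ⁅w, g⁆ ∈ center G}
      one_mem' := fun w _ => by rw [commutatorElement_one_right]; exact one_mem _
      mul_mem' := fun {a b} ha hb w hw => by
        rw [show ⁅w, a * b⁆ = ⁅w, a⁆ * (a * ⁅w, b⁆ * a⁻¹) by simp only [commutatorElement_def]; group]
        exact mul_mem (ha w hw) (Normal.conj_mem inferInstance _ (hb w hw) a)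
      inv_mem' := fun {a} ha w hw => by
        rw [show ⁅w, a⁻¹⁆ = a⁻¹ * ⁅w, a⁆⁻¹ * a⁻¹⁻¹ by simp only [commutatorElement_def]; group]
        exact Normal.conj_mem inferInstance _ (inv_mem (ha w hw)) a⁻¹ }
  have h1 : ∀ x : G, cj x d.S ≤ L := by
    rintro x _ ⟨s, hs, rfl⟩ w hw
    change ⁅w, x * s * x⁻¹⁆ ∈ _
    rw [show ⁅w, x * s * x⁻¹⁆ = x * ⁅x⁻¹ * w * x, s⁆ * x⁻¹ by simp only [commutatorElement_def]; group]
    exact Normal.conj_mem inferInstance _ (h (commutator_mem_commutator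
      (by simpa using Normal.conj_mem (inferInstance : d.W.Normal) w hw x⁻¹) hs)) x
  obtain ⟨y, hy⟩ := d.exists_move
  have hL : (⊤ : Subgroup G) ≤ L := by
    rw [← sylow_sup d.c d.hker hy]
    exact sup_le ((cj_one d.S).ge.trans (h1 1)) (h1 y)
  have hodd : ∀ g : G, (orderOf g).Coprime 2 → g ∈ centralizer (d.W : Set G) := fun g hg => by
    refine mem_centralizer_iff.2 fun w hw => ?_
    set c := ⁅g, w⁆ with hc
    have hcW : c ∈ d.W := mul_mem (Normal.conj_mem inferInstance _ hw g) (inv_mem hw)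
    have hcc : c ∈ center G := by
      rw [hc, ← commutatorElement_inv]; exact inv_mem (hL (mem_top g) w hw)
    have := coprime_step (N := ⊥) (w := c) (z := w) (d := g) (d.W_sq hcW) hg
      (by rw [hc, commutatorElement_def]; group)
      (by rw [mem_bot, commutatorElement_eq_one_iff_mul_comm]; exact (mem_center_iff.1 hcc g).symm)
    exact (commutatorElement_eq_one_iff_mul_comm.1 (mem_bot.1 this)).symm
  have hsup := Cfsg.Lib.PushUp.sup_sylow_eq_top (centralizer (d.W : Set G)) d.c.S hodd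
  have hStop : d.S = ⊤ := top_le_iff.1 (hsup ▸ sup_le (d.centralizer_W.trans d.c.core_le) le_rfl)
  exact hy (by rw [hStop]; exact top_le_iff.1 fun g _ => mem_cj.2 (mem_top _))

/-- the embedded situation -/
theorem exists_amb : ∃ a : Amb (Equiv.Perm G), a.X = (⊤ : Subgroup G).map ι ∧ a.S = d.S.map ι ∧
    a.Q = (Cfsg.pCore 2 G).map ι ∧ a.V = d.W.map ι := by
  haveI := d.c.core_normal
  haveI := d.W_normal
  have hnorm : ∀ (K : Subgroup G), K.Normal →
      (⊤ : Subgroup G).map ι ≤ normalizer (K.map ι : Set (Equiv.Perm G)) := fun K hK => by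
    haveI := hK
    exact (map_mono (normalizer_eq_top (H := K)).ge).trans (le_normalizer_map _)
  have hcent : d.W.map ι ⊓ centralizer (d.S.map ι : Set (Equiv.Perm G)) =
      (d.W ⊓ centralizer (d.S : Set G)).map ι := by
    refine le_antisymm ?_ (le_inf (map_mono inf_le_left) ?_)
    · rintro _ ⟨⟨w, hw, rfl⟩, hc⟩
      exact ⟨w, ⟨hw, mem_centralizer_iff.2 fun s hs => ι_inj (by
        rw [map_mul, map_mul]; exact mem_centralizer_iff.1 hc _ (mem_map_of_mem ι hs))⟩, rfl⟩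
    · rintro _ ⟨w, hw, rfl⟩
      refine mem_centralizer_iff.2 ?_
      rintro _ ⟨s, hs, rfl⟩
      rw [← map_mul, ← map_mul, mem_centralizer_iff.1 hw.2 s hs]
  have hcj : ∀ (x : G) (K : Subgroup G), cj (ι x) (K.map ι) = (cj x K).map ι := fun x K => by
    ext w
    constructor
    · rintro ⟨_, ⟨k, hk, rfl⟩, rfl⟩
      exact ⟨x * k * x⁻¹, conj_mem_cj hk, by rw [map_mul, map_mul, map_inv]; rfl⟩
    · rintro ⟨_, ⟨k, hk, rfl⟩, rfl⟩
      exact ⟨ι k, mem_map_of_mem ι hk, by
        show ι x * ι k * (ι x)⁻¹ = ι (x * k * x⁻¹)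
        rw [map_mul, map_mul, map_inv]⟩
  refine ⟨{ X := (⊤ : Subgroup G).map ι
            S := d.S.map ι
            Q := (Cfsg.pCore 2 G).map ι
            V := d.W.map ι
            q := 2 ^ d.c.n
            hQS := map_mono d.c.core_le
            hSX := map_mono le_top
            hVQ := map_mono d.W_le_core
            nQ := hnorm _ inferInstance
            nV := hnorm _ inferInstance
            hQV := ?_, hC := ?_, inv := ?_, hne := ?_, fix_le := ?_, cS := ?_, cV := ?_, gen := ?_, ti := ?_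
            move := ?_, hR := ?_, nZ := ?_, faith := ?_ }, rfl, rfl, rfl, rfl⟩
  · rintro _ ⟨q, hq, rfl⟩
    refine mem_centralizer_iff.2 ?_
    rintro _ ⟨w, hw, rfl⟩
    rw [← map_mul, ← map_mul, mem_centralizer_iff.1 (d.core_le_centralizer hq) w hw]
  · rintro _ ⟨⟨g, -, rfl⟩, hg⟩
    refine mem_map_of_mem ι (d.centralizer_W (mem_centralizer_iff.2 fun w hw => ι_inj ?_))
    rw [map_mul, map_mul]
    exact mem_centralizer_iff.1 hg _ (mem_map_of_mem ι hw)
  · rintro _ ⟨w, hw, rfl⟩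
    rw [← map_mul, d.W_sq hw, map_one]
  · intro h
    rw [map_eq_bot_iff_of_injective _ ι_inj] at h
    have := d.card_W
    rw [h, card_bot] at this
    have hn1 : d.c.n ≠ 0 := Nat.one_le_iff_ne_zero.1 d.c.hn
    exact absurd (Nat.eq_one_of_mul_eq_one_right this.symm) (Nat.one_lt_pow hn1 one_lt_two).ne'
  · rintro _ ⟨a, ha, rfl⟩ hna w ⟨hwV, hwc⟩
    obtain ⟨v, hv, rfl⟩ := hwV
    have h1 := d.fix_le ha (fun h => hna (mem_map_of_mem ι h)) ⟨hv, mem_centralizer_singleton_iff.2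
      (ι_inj (by rw [map_mul, map_mul]; exact mem_centralizer_singleton_iff.1 hwc))⟩
    exact (hcent.ge (mem_map_of_mem ι ⟨hv, h1⟩)).2
  · rw [card_map_of_injective ι_inj, card_map_of_injective ι_inj, d.card_S]
  · rw [hcent, card_map_of_injective ι_inj, card_map_of_injective ι_inj, d.card_W]
  · rintro _ ⟨x, -, rfl⟩ hx
    rw [hcj] at hx ⊢
    rw [← Subgroup.map_sup, sylow_sup d.c d.hker (fun h => hx (by rw [h]))]
  · rintro _ ⟨x, -, rfl⟩ hx _ ⟨a, ha, rfl⟩ han
    rw [hcj] at hx han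
    refine mem_map_of_mem ι (sylow_ti d.c d.hker (fun h => hx (by rw [h])) ha ?_)
    refine mem_normalizer_iff.2 fun z => ?_
    have := mem_normalizer_iff.1 han (ι z)
    rw [← map_inv, ← map_mul, ← map_mul, mem_map_iff_mem ι_inj, mem_map_iff_mem ι_inj] at this
    exact this
  · obtain ⟨y, hy⟩ := d.exists_move
    refine ⟨ι y, mem_map_of_mem ι (mem_top y), ?_⟩
    rw [hcj]
    exact fun h => hy (map_injective ι_inj h)
  · intro h
    refine d.not_comm_central fun g hg => mem_center_iff.2 fun x => ι_inj ?_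
    rw [map_mul, map_mul]
    have : ι g ∈ ⁅d.W.map ι, d.S.map ι⁆ := by rw [← map_commutator]; exact mem_map_of_mem ι hg
    exact mem_centralizer_iff.1 (h this) _ (mem_map_of_mem ι (mem_top x))
  · intro σ hσ
    refine Subgroup.eq_of_le_of_card_ge ?_ (card_cj _ _).ge
    rintro _ ⟨w, hw, rfl⟩
    refine ⟨?_, d.normalizer_map_comm hσ hw.2⟩
    obtain ⟨v, hv, rfl⟩ := hw.1
    have hvS : v ∈ d.S := d.c.core_le (d.W_le_core hv)
    obtain ⟨v', hv', he⟩ := (mem_normalizer_iff.1 hσ _).1 (mem_map_of_mem ι hvS)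
    refine ⟨v', ⟨Subgroup.le_normalClosure ⟨hv', mem_centralizer_iff.2 fun s hs => ι_inj ?_⟩, ι_inj ?_⟩, he⟩
    · rw [map_mul, map_mul, he]
      exact mem_centralizer_iff.1 (d.normalizer_map_comm hσ hw.2) _ (mem_map_of_mem ι hs)
    · rw [map_pow, he, conj_pow, ← map_pow, hv.2, map_one, mul_one, mul_inv_cancel]
  · exact d.faith

/-- an elementary normal subgroup of `S` outside the core meeting it inside `W` -/
theorem exists_A : ∃ A : Subgroup G, A ≤ d.S ∧ d.S ≤ normalizer (A : Set G) ∧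
    A ⊔ Cfsg.pCore 2 G = d.S ∧ A ⊓ Cfsg.pCore 2 G ≤ d.W := by
  obtain ⟨a, hX, hS, hQ, hV⟩ := d.exists_amb
  have hRS : ⁅a.V, a.S⁆ ≤ centralizer (a.S : Set (Equiv.Perm G)) := by
    rw [hV, hS, ← map_commutator]
    rintro _ ⟨r, hr, rfl⟩
    refine mem_centralizer_iff.2 ?_
    rintro _ ⟨s, hs, rfl⟩
    rw [← map_mul, ← map_mul, mem_centralizer_iff.1 (d.comm_le hr) s hs]
  obtain ⟨m, hm, hne⟩ := a.exists_outside hRS
  have hmS : cj m a.S = a.S := cj_eq_of_mem hm
  have hU : cj m a.V ≤ cj 1 a.S := by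
    rw [cj_one]; exact (cj_mono m (a.hVQ.trans a.hQS)).trans hmS.le
  obtain ⟨f1, -, f3⟩ := a.full (one_mem a.X) hU (by rw [hmS]; exact a.hVQ.trans a.hQS) hne
  rw [cj_one] at f1 hU
  rw [a.nZ m hm] at f3
  set U := cj m a.V with hUdef
  have hUle : U ≤ d.S.map ι := hU.trans hS.le
  refine ⟨U.comap ι, fun x hx => ?_, ?_, ?_, fun x hx => ?_⟩
  · obtain ⟨s, hs, he⟩ := hUle hx
    rwa [← ι_inj he]
  · refine le_normalizer_of_forall fun s hs => ?_
    rintro _ ⟨x, hx, rfl⟩
    have hn : a.S ≤ normalizer (U : Set (Equiv.Perm G)) := by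
      rw [hUdef, ← hmS]
      exact cj_le_normalizer (a.hSX.trans a.nV) m
    have := (mem_normalizer_iff.1 (hn (hS.ge (mem_map_of_mem ι hs))) _).1 hx
    rw [mem_comap]
    show ι (s * x * s⁻¹) ∈ U
    rwa [map_mul, map_mul, map_inv]
  · refine map_injective (f := (ι : G →* Equiv.Perm G)) ι_inj ?_
    rw [Subgroup.map_sup, map_comap_eq, inf_eq_right.2 (hUle.trans (map_le_range _ _)), ← hQ, f1, hS]
  · have h := f3 ⟨hx.1, hQ.ge (mem_map_of_mem ι hx.2)⟩
    obtain ⟨w, hw, he⟩ := hV.le h.1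
    rwa [← ι_inj he]

/-- `O²` of the group -/
abbrev E : Subgroup G := Cfsg.pResidual 2 G

theorem E_normal : (Cfsg.pResidual 2 G).Normal := by
  refine ⟨fun x hx g => ?_⟩
  induction hx using closure_induction with
  | mem z hz =>
    refine subset_closure ?_
    show (orderOf (g * z * g⁻¹)).Coprime 2
    rw [show g * z * g⁻¹ = MulAut.conj g z from rfl, (MulAut.conj g).orderOf_eq z]
    exact hz
  | one => simp
  | mul a b _ _ ha hb =>
    rw [show g * (a * b) * g⁻¹ = (g * a * g⁻¹) * (g * b * g⁻¹) by group]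
    exact mul_mem ha hb
  | inv a _ ha =>
    rw [show g * a⁻¹ * g⁻¹ = (g * a * g⁻¹)⁻¹ by group]
    exact inv_mem ha

/-- elements fixing everything in `Q` modulo a normal subgroup -/
def modFix (Q N : Subgroup G) [N.Normal] : Subgroup G where
  carrier := {g | ∀ z ∈ Q, ⁅z, g⁆ ∈ N}
  one_mem' := fun z _ => by rw [commutatorElement_one_right]; exact one_mem _
  mul_mem' := fun {a b} ha hb z hz => by
    rw [show ⁅z, a * b⁆ = ⁅z, a⁆ * (a * ⁅z, b⁆ * a⁻¹) by simp only [commutatorElement_def]; group]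
    exact mul_mem (ha z hz) (Normal.conj_mem inferInstance _ (hb z hz) a)
  inv_mem' := fun {a} ha z hz => by
    rw [show ⁅z, a⁻¹⁆ = a⁻¹ * ⁅z, a⁆⁻¹ * a⁻¹⁻¹ by simp only [commutatorElement_def]; group]
    exact Normal.conj_mem inferInstance _ (inv_mem (ha z hz)) a⁻¹

theorem core_comm : ⁅Cfsg.pCore 2 G, Cfsg.pResidual 2 G⁆ ≤ ⁅d.W, Cfsg.pResidual 2 G⁆ ∧
    ⁅d.W, Cfsg.pResidual 2 G⁆ ≤ ⁅⁅d.W, Cfsg.pResidual 2 G⁆, Cfsg.pResidual 2 G⁆ := by
  haveI := d.W_normal
  haveI := d.c.core_normal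
  haveI := d.E_normal
  obtain ⟨A, hAS, hAn, hAQ, hAW⟩ := d.exists_A
  obtain ⟨y, hy⟩ := d.exists_move
  set Q := Cfsg.pCore 2 G with hQ
  have hA1 : ∀ x : G, cj x A ≤ modFix Q d.W := by
    rintro x _ ⟨b, hb', rfl⟩ z hz
    have hb : b ∈ A := hb'
    change ⁅z, x * b * x⁻¹⁆ ∈ _
    rw [show ⁅z, x * b * x⁻¹⁆ = x * ⁅x⁻¹ * z * x, b⁆ * x⁻¹ by simp only [commutatorElement_def]; group]
    refine Normal.conj_mem inferInstance _ (hAW ⟨?_, ?_⟩) x
    · have hz' : x⁻¹ * z * x ∈ d.S := d.c.core_le (by simpa using Normal.conj_mem inferInstance _ hz x⁻¹)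
      rw [commutatorElement_def]
      exact A.mul_mem ((mem_normalizer_iff.1 (hAn hz') b).1 hb) (A.inv_mem hb)
    · have hz' : x⁻¹ * z * x ∈ Q := by simpa using Normal.conj_mem inferInstance _ hz x⁻¹
      rw [commutatorElement_def, mul_assoc, mul_assoc]
      exact mul_mem hz' (by simpa [mul_assoc] using Normal.conj_mem inferInstance _ (inv_mem hz') b)
  set L := A ⊔ cj y A with hL
  have hLtop : L ⊔ Q = ⊤ := by
    rw [eq_top_iff, ← sylow_sup d.c d.hker hy]
    conv_lhs => rw [show (d.c.S : Subgroup G) = A ⊔ Q from hAQ.symm, cj_sup, cj_eq_of_mem ((normalizer_eq_top (H := Q)).ge (mem_top y))]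
    exact sup_le (sup_le (le_sup_left.trans le_sup_left) le_sup_right)
      (sup_le (le_sup_right.trans le_sup_left) le_sup_right)
  have hQy : Q ≤ cj y d.S := (cj_eq_of_mem ((normalizer_eq_top (H := Q)).ge (mem_top y))).ge.trans (cj_mono y d.c.core_le)
  haveI : L.Normal := by
    rw [← normalizer_eq_top_iff, eq_top_iff, ← hLtop]
    refine sup_le le_normalizer (le_normalizer_of_forall fun q hq => ?_)
    rw [hL, cj_sup]
    exact sup_le ((cj_eq_of_mem (hAn (d.c.core_le hq))).le.trans le_sup_left)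
      ((cj_eq_of_mem (cj_le_normalizer hAn y (hQy hq))).le.trans le_sup_right)
  have hoddL : ∀ g : G, (orderOf g).Coprime 2 → g ∈ L := by
    intro g hg
    have htop : Q.map (QuotientGroup.mk' L) = ⊤ := by
      rw [← map_top_of_surjective _ (QuotientGroup.mk'_surjective L), ← hLtop, Subgroup.map_sup,
        QuotientGroup.map_mk'_self, bot_sup_eq]
    have hp : IsPGroup 2 (⊤ : Subgroup (G ⧸ L)) :=
      htop ▸ (Cfsg.Lib.Components.pCore_normal_and_isPGroup 2).2.map _
    obtain ⟨k, hk⟩ := IsPGroup.iff_orderOf.1 hp ⟨(g : G ⧸ L), mem_top _⟩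
    rw [Subgroup.orderOf_mk] at hk
    have h3 : orderOf (g : G ⧸ L) ∣ orderOf g := orderOf_map_dvd (QuotientGroup.mk' L) g
    rw [hk] at h3
    rw [← QuotientGroup.eq_one_iff, ← orderOf_eq_one_iff, hk]
    exact Nat.eq_one_of_dvd_coprimes (hg.pow_right k) h3 dvd_rfl
  have hQW : L ≤ modFix Q d.W := sup_le ((cj_one A).ge.trans (hA1 1)) (hA1 y)
  constructor
  · haveI : (⁅d.W, Cfsg.pResidual 2 G⁆).Normal := inferInstance
    have hE : Cfsg.pResidual 2 G ≤ modFix Q ⁅d.W, Cfsg.pResidual 2 G⁆ := by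
      refine (closure_le _).2 fun g hg z hz => ?_
      have hw : ⁅z, g⁆ ∈ d.W := hQW (hoddL g hg) z hz
      rw [← inv_mem_iff]
      refine coprime_step (z := z) (d := g) (d.W_sq (inv_mem hw)) hg
        (by rw [commutatorElement_def]; group) ?_
      exact commutator_mem_commutator (inv_mem hw) (subset_closure hg)
    exact commutator_le.2 fun z hz g hg => hE hg z hz
  · haveI : (⁅⁅d.W, Cfsg.pResidual 2 G⁆, Cfsg.pResidual 2 G⁆).Normal := inferInstance
    have hE : Cfsg.pResidual 2 G ≤ modFix d.W ⁅⁅d.W, Cfsg.pResidual 2 G⁆, Cfsg.pResidual 2 G⁆ := by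
      refine (closure_le _).2 fun g hg z hz => ?_
      have hw : ⁅z, g⁆ ∈ d.W := hQW (hoddL g hg) z (d.W_le_core hz)
      have hD : ⁅z, g⁆ ∈ ⁅d.W, Cfsg.pResidual 2 G⁆ := commutator_mem_commutator hz (subset_closure hg)
      rw [← inv_mem_iff]
      refine coprime_step (z := z) (d := g) (d.W_sq (inv_mem hw)) hg
        (by rw [commutatorElement_def]; group) ?_
      exact commutator_mem_commutator (inv_mem hD) (subset_closure hg)
    exact commutator_le.2 fun z hz g hg => hE hg z hz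

end Nat2

end Cfsg.Lib.BGN
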