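import Mathlib

/-!
Pushing up over `L₂(2ⁿ)` inside a finite ambient group: some conjugate of `V` under the normalizer of the Sylow
subgroup lies outside `Q`. Vertices are the conjugates of `X`; a step is an element `x * m` with `x ∈ X` and `m`
normalizing `S`.
-/

set_option autoImplicit false
set_option linter.unusedSectionVars false

namespace Cfsg.Lib.BGN

open Subgroup
open scoped commutatorElement

universe u

variable {G : Type u} [Group G]

/-- conjugate subgroup -/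
abbrev cj (g : G) (K : Subgroup G) : Subgroup G := K.map (MulAut.conj g).toMonoidHom

theorem mem_cj {g x : G} {K : Subgroup G} : x ∈ cj g K ↔ g⁻¹ * x * g ∈ K := by
  constructor
  · rintro ⟨y, hy, rfl⟩
    simpa [mul_assoc] using hy
  · intro h
    exact ⟨_, h, by simp [mul_assoc]⟩

theorem conj_mem_cj {g x : G} {K : Subgroup G} (h : x ∈ K) : g * x * g⁻¹ ∈ cj g K :=
  mem_cj.2 (by simpa [mul_assoc] using h)

theorem cj_mul (g h : G) (K : Subgroup G) : cj (g * h) K = cj g (cj h K) := by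
  ext x; simp [mem_cj, mul_assoc]

theorem cj_one (K : Subgroup G) : cj 1 K = K := by ext x; simp [mem_cj]

theorem cj_inv_left (g : G) (K : Subgroup G) : cj g⁻¹ (cj g K) = K := by
  rw [← cj_mul, inv_mul_cancel, cj_one]

theorem cj_inv_right (g : G) (K : Subgroup G) : cj g (cj g⁻¹ K) = K := by
  rw [← cj_mul, mul_inv_cancel, cj_one]

theorem cj_mono (g : G) {K L : Subgroup G} (h : K ≤ L) : cj g K ≤ cj g L := map_mono h

theorem cj_le_iff (g : G) {K L : Subgroup G} : cj g K ≤ cj g L ↔ K ≤ L :=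
  ⟨fun h => by simpa [cj_inv_left] using cj_mono g⁻¹ h, cj_mono g⟩

theorem cj_le_iff' (g : G) {K L : Subgroup G} : cj g K ≤ L ↔ K ≤ cj g⁻¹ L := by
  rw [← cj_le_iff g⁻¹ (K := cj g K), cj_inv_left]

theorem cj_sup (g : G) (K L : Subgroup G) : cj g (K ⊔ L) = cj g K ⊔ cj g L := Subgroup.map_sup _ _ _

theorem cj_comm (g : G) (K L : Subgroup G) : cj g ⁅K, L⁆ = ⁅cj g K, cj g L⁆ := map_commutator _ _ _

theorem card_cj (g : G) (K : Subgroup G) : Nat.card (cj g K) = Nat.card K :=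
  card_map_of_injective (MulAut.conj g).injective

theorem cj_eq_of_mem [Finite G] {g : G} {K : Subgroup G} (h : g ∈ normalizer (K : Set G)) : cj g K = K := by
  refine Subgroup.eq_of_le_of_card_ge ?_ (card_cj g K).ge
  rintro _ ⟨y, hy, rfl⟩
  exact (mem_normalizer_iff.1 h y).1 hy

theorem le_normalizer_of_forall [Finite G] {H K : Subgroup G} (h : ∀ g ∈ H, cj g K ≤ K) :
    H ≤ normalizer (K : Set G) := by
  intro g hg
  refine mem_normalizer_iff.2 fun x => ⟨fun hx => h g hg (conj_mem_cj hx), fun hx => ?_⟩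
  have := h g⁻¹ (inv_mem hg) (conj_mem_cj (g := g⁻¹) hx)
  simpa [mul_assoc] using this

theorem cj_le_normalizer [Finite G] {H K : Subgroup G} (h : H ≤ normalizer (K : Set G)) (g : G) :
    cj g H ≤ normalizer (cj g K : Set G) := by
  refine le_normalizer_of_forall fun w hw => ?_
  obtain ⟨z, hz, rfl⟩ := hw
  have : (MulAut.conj g).toMonoidHom z = g * z * g⁻¹ := rfl
  rw [this, ← cj_mul, inv_mul_cancel_right, cj_mul, cj_eq_of_mem (h hz)]

theorem cj_centralizer (g : G) (K : Subgroup G) :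
    cj g (centralizer (K : Set G)) = centralizer (cj g K : Set G) := by
  ext x
  rw [mem_cj, mem_centralizer_iff, mem_centralizer_iff]
  constructor
  · intro h y hy
    have := h _ (mem_cj.1 hy)
    calc y * x = g * ((g⁻¹ * y * g) * (g⁻¹ * x * g)) * g⁻¹ := by group
      _ = g * ((g⁻¹ * x * g) * (g⁻¹ * y * g)) * g⁻¹ := by rw [this]
      _ = x * y := by group
  · intro h y hy
    have := h _ (conj_mem_cj (g := g) hy)
    calc y * (g⁻¹ * x * g) = g⁻¹ * ((g * y * g⁻¹) * x) * g := by group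
      _ = g⁻¹ * (x * (g * y * g⁻¹)) * g := by rw [this]
      _ = g⁻¹ * x * g * y := by group

theorem card_mul_le_sup [Finite G] (N M : Subgroup G) :
    Nat.card N * Nat.card M ≤ Nat.card (N ⊔ M : Subgroup G) * Nat.card (N ⊓ M : Subgroup G) := by
  have h1 : ∀ (P L : Subgroup G), Nat.card (P ⊓ L : Subgroup G) * P.relIndex L = Nat.card L := fun P L => by
    rw [← inf_relIndex_right P L, ← relIndex_bot_left (P ⊓ L), ← relIndex_bot_left L]
    exact relIndex_mul_relIndex ⊥ _ L bot_le inf_le_right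
  have h2 : N.relIndex M ≤ N.relIndex (N ⊔ M) :=
    relIndex_le_of_le_right le_sup_right index_ne_zero_of_finite
  have h3 := h1 N (N ⊔ M)
  rw [inf_of_le_left (le_sup_left : N ≤ N ⊔ M)] at h3
  calc Nat.card N * Nat.card M = Nat.card N * N.relIndex M * Nat.card (N ⊓ M : Subgroup G) := by
        rw [mul_assoc, mul_comm (N.relIndex M), h1]
    _ ≤ Nat.card N * N.relIndex (N ⊔ M) * Nat.card (N ⊓ M : Subgroup G) :=
        Nat.mul_le_mul_right _ (Nat.mul_le_mul_left _ h2)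
    _ = _ := by rw [h3]

/-- The hypotheses: `X/Q ≅ L₂(q)`, `V` the natural module over `Q`, and no subgroup of `S` but `1` normalized by
`X` and the normalizer of `S`. -/
structure Amb (G : Type u) [Group G] where
  X : Subgroup G
  S : Subgroup G
  Q : Subgroup G
  V : Subgroup G
  q : ℕ
  hQS : Q ≤ S
  hSX : S ≤ X
  hVQ : V ≤ Q
  nQ : X ≤ normalizer (Q : Set G)
  nV : X ≤ normalizer (V : Set G)
  hQV : Q ≤ centralizer (V : Set G)
  hC : X ⊓ centralizer (V : Set G) ≤ Q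
  inv : ∀ v ∈ V, v * v = 1
  hne : V ≠ ⊥
  fix_le : ∀ a ∈ S, a ∉ Q → V ⊓ centralizer ({a} : Set G) ≤ centralizer (S : Set G)
  cS : Nat.card S = q * Nat.card Q
  cV : Nat.card V = q * Nat.card ↥(V ⊓ centralizer (S : Set G))
  gen : ∀ x ∈ X, cj x S ≠ S → S ⊔ cj x S = X
  ti : ∀ x ∈ X, cj x S ≠ S → ∀ a ∈ S, a ∈ normalizer (cj x S : Set G) → a ∈ Q
  move : ∃ y ∈ X, cj y S ≠ S
  hR : ¬ ⁅V, S⁆ ≤ centralizer (X : Set G)
  nZ : ∀ m ∈ normalizer (S : Set G), cj m (V ⊓ centralizer (S : Set G)) = V ⊓ centralizer (S : Set G)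
  faith : ∀ K : Subgroup G, K ≤ S → X ≤ normalizer (K : Set G) →
    normalizer (S : Set G) ≤ normalizer (K : Set G) → K = ⊥

namespace Amb

variable [Finite G] (d : Amb G)

include d

/-- paths with `k` steps -/
def P : ℕ → Set G
  | 0 => {1}
  | k + 1 => {g | ∃ x ∈ d.X, ∃ m ∈ normalizer (d.S : Set G), ∃ h ∈ P k, g = x * m * h}

theorem cj_X {x : G} (hx : x ∈ d.X) : cj x d.X = d.X := cj_eq_of_mem (le_normalizer hx)
theorem cj_Q {x : G} (hx : x ∈ d.X) : cj x d.Q = d.Q := cj_eq_of_mem (d.nQ hx)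
theorem cj_V {x : G} (hx : x ∈ d.X) : cj x d.V = d.V := cj_eq_of_mem (d.nV hx)

theorem QX : d.Q ≤ d.X := d.hQS.trans d.hSX

theorem cjS_le {x : G} (hx : x ∈ d.X) : cj x d.S ≤ d.X := (cj_mono x d.hSX).trans (d.cj_X hx).le

theorem Q_le_cjS {x : G} (hx : x ∈ d.X) : d.Q ≤ cj x d.S := (d.cj_Q hx).ge.trans (cj_mono x d.hQS)

theorem R_le_Z : ⁅d.V, d.S⁆ ≤ d.V := by
  rw [commutator_le]
  intro v hv s hs
  rw [commutatorElement_def, mul_assoc, mul_assoc]
  exact mul_mem hv (by simpa [mul_assoc] using (mem_normalizer_iff.1 (d.nV (d.hSX hs)) v⁻¹).1 (inv_mem hv))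

theorem P_add {k l : ℕ} {g h : G} (hg : g ∈ d.P k) (hh : h ∈ d.P l) : g * h ∈ d.P (k + l) := by
  induction k generalizing g with
  | zero => obtain rfl : g = 1 := hg; simpa using hh
  | succ k ih =>
    obtain ⟨x, hx, m, hm, g', hg', rfl⟩ := hg
    rw [Nat.succ_add]
    exact ⟨x, hx, m, hm, g' * h, ih hg', by group⟩

theorem P_one {x m : G} (hx : x ∈ d.X) (hm : m ∈ normalizer (d.S : Set G)) : x * m ∈ d.P 1 :=
  ⟨x, hx, m, hm, 1, rfl, (mul_one _).symm⟩

theorem P_pow {x m : G} (hx : x ∈ d.X) (hm : m ∈ normalizer (d.S : Set G)) : ∀ j : ℕ, (x * m) ^ j ∈ d.P j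
  | 0 => by rw [pow_zero]; rfl
  | j + 1 => by rw [pow_succ']; exact ⟨x, hx, m, hm, _, P_pow hx hm j, rfl⟩

theorem P_last {k : ℕ} {g : G} (hg : g ∈ d.P (k + 1)) :
    ∃ h ∈ d.P k, ∃ x ∈ d.X, ∃ m ∈ normalizer (d.S : Set G), g = h * x * m := by
  induction k generalizing g with
  | zero =>
    obtain ⟨x, hx, m, hm, h, hh, rfl⟩ := hg
    obtain rfl : h = 1 := hh
    exact ⟨1, rfl, x, hx, m, hm, by group⟩
  | succ k ih =>
    obtain ⟨x, hx, m, hm, h, hh, rfl⟩ := hg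
    obtain ⟨h', hh', x', hx', m', hm', rfl⟩ := ih hh
    exact ⟨x * m * h', ⟨x, hx, m, hm, h', hh', rfl⟩, x', hx', m', hm', by group⟩

theorem P_inv {k : ℕ} {g : G} (hg : g ∈ d.P k) : ∃ h ∈ d.P k, ∃ x ∈ d.X, g⁻¹ = h * x := by
  induction k generalizing g with
  | zero => obtain rfl : g = 1 := hg; exact ⟨1, rfl, 1, one_mem _, by simp⟩
  | succ k ih =>
    obtain ⟨x, hx, m, hm, g', hg', rfl⟩ := hg
    obtain ⟨h, hh, x', hx', he⟩ := ih hg'
    refine ⟨h * (x' * m⁻¹), d.P_add hh (d.P_one hx' (inv_mem hm)), x⁻¹, inv_mem hx, ?_⟩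
    rw [mul_inv_rev, mul_inv_rev, he]; group

/-- below the distance `b` everything stays in `Q` -/
def Low (b : ℕ) : Prop := ∀ k < b, ∀ g ∈ d.P k, cj g d.V ≤ d.Q

theorem low_inv {b : ℕ} (hb : d.Low b) {k : ℕ} (hk : k < b) {g : G} (hg : g ∈ d.P k) :
    cj g⁻¹ d.V ≤ d.Q := by
  obtain ⟨h, hh, x, hx, he⟩ := d.P_inv hg
  rw [he, cj_mul, d.cj_V hx]
  exact hb k hk h hh

theorem low_left {b : ℕ} (hb : d.Low b) {k : ℕ} (hk : k < b) {g : G} (hg : g ∈ d.P k) :
    d.V ≤ cj g d.Q := by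
  rw [← cj_inv_right g d.V]
  exact cj_mono g (d.low_inv hb hk hg)

/-- the first step of a path of length `b` -/
theorem front {k : ℕ} (hb : d.Low (k + 1)) {x m h : G} (hx : x ∈ d.X) (hm : m ∈ normalizer (d.S : Set G))
    (hh : h ∈ d.P k) : cj (x * m * h) d.V ≤ cj x d.S := by
  rw [cj_mul, cj_mul]
  refine cj_mono x (((cj_mono m ((hb k (Nat.lt_succ_self k) h hh).trans d.hQS))).trans ?_)
  exact (cj_eq_of_mem hm).le

/-- the last step of a path of length `b` -/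
theorem back {k : ℕ} (hb : d.Low (k + 1)) {g : G} (hg : g ∈ d.P (k + 1)) : d.V ≤ cj g d.S := by
  obtain ⟨h, hh, x, hx, m, hm, rfl⟩ := d.P_last hg
  rw [cj_mul, cj_eq_of_mem hm, cj_mul]
  exact (d.low_left hb (Nat.lt_succ_self k) hh).trans (cj_mono h (d.Q_le_cjS hx))

theorem commute_of_le {K : Subgroup G} (h : K ≤ d.Q) {a v : G} (ha : a ∈ K) (hv : v ∈ d.V) : v * a = a * v :=
  mem_centralizer_iff.1 (d.hQV (h ha)) v hv

theorem symm_not_le {g : G} (hU : cj g d.V ≤ d.X) (hne : ¬ cj g d.V ≤ d.Q) : ¬ d.V ≤ cj g d.Q := by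
  intro h
  refine hne fun u hu => d.hC ⟨hU hu, mem_centralizer_iff.2 fun v hv => ?_⟩
  have := cj_mono g d.hQV
  rw [cj_centralizer] at this
  exact (mem_centralizer_iff.1 (this (h hv)) u hu).symm

/-- a critical pair: both act on each other as a full Sylow subgroup -/
theorem full {g x : G} (hx : x ∈ d.X) (hU : cj g d.V ≤ cj x d.S) (hV : d.V ≤ cj g d.S)
    (hne : ¬ cj g d.V ≤ d.Q) :
    cj g d.V ⊔ d.Q = cj x d.S ∧ ⁅d.V, cj g d.V⁆ = cj x ⁅d.V, d.S⁆ ∧
      cj g d.V ⊓ d.Q ≤ cj g (d.V ⊓ centralizer (d.S : Set G)) := by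
  obtain ⟨v, hv, hvQ⟩ := SetLike.not_le_iff_exists.1 (d.symm_not_le (hU.trans (d.cjS_le hx)) hne)
  have h3 : cj g d.V ⊓ d.Q ≤ cj g (d.V ⊓ centralizer (d.S : Set G)) := by
    intro u hu
    rw [mem_cj]
    refine ⟨mem_cj.1 hu.1, d.fix_le _ (mem_cj.1 (hV hv)) (fun h => hvQ (mem_cj.2 h))
      ⟨mem_cj.1 hu.1, mem_centralizer_singleton_iff.2 ?_⟩⟩
    have e := d.commute_of_le (inf_le_right (a := cj g d.V)) hu hv
    calc g⁻¹ * u * g * (g⁻¹ * v * g) = g⁻¹ * (u * v) * g := by group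
      _ = g⁻¹ * (v * u) * g := by rw [e]
      _ = g⁻¹ * v * g * (g⁻¹ * u * g) := by group
  have h1 : cj g d.V ⊔ d.Q = cj x d.S := by
    refine Subgroup.eq_of_le_of_card_ge (sup_le hU (d.Q_le_cjS hx)) ?_
    rw [card_cj, d.cS]
    refine Nat.le_of_mul_le_mul_right (c := Nat.card ↥(d.V ⊓ centralizer (d.S : Set G))) ?_ Nat.card_pos
    calc d.q * Nat.card d.Q * Nat.card ↥(d.V ⊓ centralizer (d.S : Set G))
        = Nat.card (cj g d.V) * Nat.card d.Q := by rw [card_cj, d.cV]; ring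
      _ ≤ _ := card_mul_le_sup _ _
      _ ≤ _ := Nat.mul_le_mul_left _ ((Nat.card_mono (Set.toFinite _) (SetLike.coe_subset_coe.2 h3)).trans
          (card_cj _ _).le)
  refine ⟨h1, ?_, h3⟩
  rw [cj_comm, d.cj_V hx, ← h1]
  refine le_antisymm (commutator_mono le_rfl le_sup_left) (commutator_le.2 fun v' hv' w hw => ?_)
  have hn : cj g d.V ≤ normalizer (d.Q : Set G) := (hU.trans (d.cjS_le hx)).trans d.nQ
  rw [← SetLike.mem_coe, coe_mul_of_left_le_normalizer_right _ _ hn] at hw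
  obtain ⟨a, ha, z, hz, rfl⟩ := hw
  have e := mem_centralizer_iff.1 (d.hQV hz) v' hv'
  have e' : ⁅v', a * z⁆ = ⁅v', a⁆ := by
    simp only [commutatorElement_def, mul_inv_rev]
    calc v' * (a * z) * v'⁻¹ * (z⁻¹ * a⁻¹) = v' * a * (z * v'⁻¹ * z⁻¹) * a⁻¹ := by group
      _ = v' * a * v'⁻¹ * a⁻¹ := by
        rw [show z * v'⁻¹ * z⁻¹ = v'⁻¹ by
          rw [show z * v'⁻¹ = v'⁻¹ * z from (show Commute v' z from e).inv_left.eq.symm]; group]
  rw [e']
  exact commutator_mem_commutator hv' ha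

/-- the same, seen from the other end -/
theorem full' {g x : G} (hx : x ∈ d.X) (hU : cj g d.V ≤ cj x d.S) (hV : d.V ≤ cj g d.S)
    (hne : ¬ cj g d.V ≤ d.Q) :
    d.V ⊔ cj g d.Q = cj g d.S ∧ ⁅d.V, cj g d.V⁆ = cj g ⁅d.V, d.S⁆ := by
  have hne' : ¬ cj (x⁻¹ * g)⁻¹ d.V ≤ d.Q := by
    rw [mul_inv_rev, inv_inv, cj_mul, d.cj_V hx, cj_le_iff', inv_inv]
    exact d.symm_not_le (hU.trans (d.cjS_le hx)) hne
  have hx1 := inv_mem hx
  obtain ⟨h1, h2, -⟩ := d.full (g := (x⁻¹ * g)⁻¹) (one_mem d.X)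
    (by rw [mul_inv_rev, inv_inv, cj_mul, d.cj_V hx, cj_one, cj_le_iff', inv_inv]; exact hV)
    (by rw [← cj_le_iff (x⁻¹ * g), cj_inv_right, cj_mul, cj_le_iff', inv_inv]; exact hU) hne'
  rw [mul_inv_rev, inv_inv, cj_mul, d.cj_V hx, cj_one] at h1 h2
  constructor
  · have := congrArg (cj g) h1
    rwa [cj_sup, cj_inv_right] at this
  · have := congrArg (cj g) h2
    rw [cj_comm, cj_inv_right, commutator_comm] at this
    exact this

theorem Z_fixed {m : G} (hm : m ∈ normalizer (d.S : Set G)) :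
    cj m ⁅d.V, d.S⁆ ≤ cj m d.V ∧ (⁅d.V, d.S⁆ ≤ centralizer (d.S : Set G) →
      cj m ⁅d.V, d.S⁆ ≤ d.V ⊓ centralizer (d.S : Set G)) :=
  ⟨cj_mono m d.R_le_Z, fun h => (cj_mono m (le_inf d.R_le_Z h)).trans (d.nZ m hm).le⟩

theorem exists_bad : ∃ m ∈ normalizer (d.S : Set G), ¬ d.X ≤ normalizer (d.V ⊔ cj m d.V : Subgroup G) := by
  by_contra hcon
  push Not at hcon
  set K : Subgroup G := ⨆ m : ↥(normalizer (d.S : Set G)), cj (m : G) d.V with hK
  have hVK : d.V ≤ K := by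
    refine le_trans ?_ (le_iSup _ (1 : ↥(normalizer (d.S : Set G))))
    simp [cj_one]
  refine d.hne (le_bot_iff.1 (hVK.trans (d.faith K ?_ ?_ ?_).le))
  · exact iSup_le fun m => (cj_mono _ (d.hVQ.trans d.hQS)).trans (cj_eq_of_mem m.2).le
  · refine le_normalizer_of_forall fun x hx => ?_
    rw [hK, cj, Subgroup.map_iSup]
    refine iSup_le fun m => ?_
    refine le_trans ?_ (sup_le hVK (le_iSup (fun m : ↥(normalizer (d.S : Set G)) => cj (m : G) d.V) m))
    exact (cj_mono x le_sup_right).trans (cj_eq_of_mem (hcon m m.2 hx)).le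
  · refine le_normalizer_of_forall fun n hn => ?_
    rw [hK, cj, Subgroup.map_iSup]
    refine iSup_le fun m => ?_
    refine le_trans (le_of_eq (cj_mul n (m : G) d.V).symm) ?_
    exact le_iSup (fun m : ↥(normalizer (d.S : Set G)) => cj (m : G) d.V) ⟨n * m, mul_mem hn m.2⟩

theorem exists_dist : ∃ k, ∃ g ∈ d.P k, ¬ cj g d.V ≤ d.Q := by
  by_contra hcon
  push Not at hcon
  set K : Subgroup G := ⨆ g : {g : G // ∃ k, g ∈ d.P k}, cj (g : G) d.V with hK
  have hVK : d.V ≤ K := by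
    refine le_trans ?_ (le_iSup _ (⟨1, 0, rfl⟩ : {g : G // ∃ k, g ∈ d.P k}))
    simp [cj_one]
  refine d.hne (le_bot_iff.1 (hVK.trans (d.faith K ?_ ?_ ?_).le))
  · exact iSup_le fun g => ((hcon _ _ g.2.choose_spec).trans d.hQS)
  · refine le_normalizer_of_forall fun x hx => ?_
    rw [hK, cj, Subgroup.map_iSup]
    refine iSup_le fun g => ?_
    obtain ⟨k, hk⟩ := g.2
    cases k with
    | zero =>
      have hg : (g : G) = 1 := hk
      rw [hg]
      refine le_trans (le_of_eq ?_) hVK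
      show cj x (cj 1 d.V) = d.V
      rw [cj_one, d.cj_V hx]
    | succ k =>
      obtain ⟨x', hx', m, hm, h, hh, he⟩ := hk
      refine le_trans (le_of_eq (cj_mul x (g : G) d.V).symm) ?_
      exact le_iSup (fun g : {g : G // ∃ k, g ∈ d.P k} => cj (g : G) d.V)
        ⟨x * g, k + 1, x * x', mul_mem hx hx', m, hm, h, hh, by rw [he]; group⟩
  · refine le_normalizer_of_forall fun n hn => ?_
    rw [hK, cj, Subgroup.map_iSup]
    refine iSup_le fun g => ?_
    obtain ⟨k, hk⟩ := g.2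
    refine le_trans (le_of_eq (cj_mul n (g : G) d.V).symm) ?_
    exact le_iSup (fun g : {g : G // ∃ k, g ∈ d.P k} => cj (g : G) d.V)
      ⟨n * g, k + 1, 1, one_mem _, n, hn, g, hk, by rw [one_mul]⟩

/-- shifting a critical pair by a bad step -/
theorem extend {k : ℕ} (hk : 1 ≤ k) (hb : d.Low (k + 1)) {x m h : G} (hx : x ∈ d.X)
    (hm : m ∈ normalizer (d.S : Set G)) (hh : h ∈ d.P k) (hne : ¬ cj (x * m * h) d.V ≤ d.Q)
    {y n : G} (hy : y ∈ d.X) (hyS : cj y d.S ≠ d.S) (hn : n ∈ normalizer (d.S : Set G))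
    (hbad : ¬ d.X ≤ normalizer (d.V ⊔ cj n d.V : Subgroup G)) :
    ¬ cj (h * (y * n)) d.V ≤ d.Q := by
  intro hcon
  apply hbad
  set g := x * m * h with hg
  have hgP : g ∈ d.P (k + 1) := ⟨x, hx, m, hm, h, hh, rfl⟩
  have hU := d.front hb hx hm hh
  have hV := d.back hb hgP
  obtain ⟨-, h2, -⟩ := d.full hx hU hV hne
  obtain ⟨h4, -⟩ := d.full' hx hU hV hne
  have hnew : cj (g * (y * n)) d.V ≤ cj x d.S := by
    rw [hg, mul_assoc, cj_mul]
    refine (cj_mono _ (hcon.trans d.hQS)).trans ?_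
    rw [cj_mul, cj_eq_of_mem hm]
  have hVn : d.V ≤ normalizer (cj g d.V : Set G) :=
    (hV.trans (cj_mono g d.hSX)).trans (cj_le_normalizer d.nV g)
  have hUU : ⁅d.V, cj g d.V⁆ ≤ cj g d.V := by
    rw [commutator_le]
    intro v hv u hu
    rw [commutatorElement_def]
    exact mul_mem ((mem_normalizer_iff.1 (hVn hv) u).1 hu) (inv_mem hu)
  have hVW : d.V ≤ normalizer (cj g d.V ⊔ cj (g * (y * n)) d.V : Subgroup G) := by
    refine le_normalizer_of_forall fun v hv => ?_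
    rw [cj_sup]
    refine sup_le ((cj_eq_of_mem (hVn hv)).le.trans le_sup_left) ?_
    rintro _ ⟨z, hz, rfl⟩
    change v * z * v⁻¹ ∈ _
    have : ⁅v, z⁆ ∈ cj g d.V := by
      refine hUU ?_
      rw [h2, cj_comm, d.cj_V hx]
      exact commutator_mem_commutator hv (hnew hz)
    rw [show v * z * v⁻¹ = ⁅v, z⁆ * z by rw [commutatorElement_def]; group]
    exact mul_mem (mem_sup_left this) (mem_sup_right hz)
  have hSn : d.S ≤ normalizer (d.V ⊔ cj n d.V : Subgroup G) := by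
    refine le_normalizer_of_forall fun s hs => ?_
    rw [cj_sup, d.cj_V (d.hSX hs), ← cj_mul, show s * n = n * (n⁻¹ * s * n) by group, cj_mul,
      d.cj_V (d.hSX ?_)]
    simpa using (mem_normalizer_iff.1 (inv_mem hn) s).1 hs
  have hWe : cj (g * y) (d.V ⊔ cj n d.V) = cj g d.V ⊔ cj (g * (y * n)) d.V := by
    rw [cj_sup, cj_mul g y d.V, d.cj_V hy, ← cj_mul, mul_assoc]
  have h5 := cj_le_normalizer hVW (g * y)⁻¹
  rw [← hWe, cj_inv_left] at h5
  have h7 : d.X ≤ d.S ⊔ cj (g * y)⁻¹ d.V := by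
    rw [← d.gen y⁻¹ (inv_mem hy) (fun h => hyS (by conv_lhs => rw [← h]; rw [cj_inv_right]))]
    refine sup_le le_sup_left ?_
    have : cj y⁻¹ d.S = cj (g * y)⁻¹ d.V ⊔ d.Q := by
      rw [← cj_inv_left g d.S, ← h4, cj_sup, cj_inv_left, cj_sup, ← cj_mul, d.cj_Q (inv_mem hy)]
      simp only [g, mul_inv_rev, mul_assoc]
    rw [this]
    exact sup_le le_sup_right (d.hQS.trans le_sup_left)
  exact h7.trans (sup_le hSn h5)

/-- the periodic critical path -/
theorem periodic {k : ℕ} (hk : 1 ≤ k) (hb : d.Low (k + 1)) (hex : ∃ g ∈ d.P (k + 1), ¬ cj g d.V ≤ d.Q)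
    {y n : G} (hy : y ∈ d.X) (hyS : cj y d.S ≠ d.S) (hn : n ∈ normalizer (d.S : Set G))
    (hbad : ¬ d.X ≤ normalizer (d.V ⊔ cj n d.V : Subgroup G)) :
    ¬ cj ((y * n) ^ (k + 1)) d.V ≤ d.Q := by
  have key : ∀ j l : ℕ, l + j = k + 1 → ∃ h ∈ d.P l, ¬ cj (h * (y * n) ^ j) d.V ≤ d.Q := by
    intro j
    induction j with
    | zero =>
      rintro l rfl
      obtain ⟨g, hg, hne⟩ := hex
      exact ⟨g, hg, by rwa [pow_zero, mul_one]⟩
    | succ j ih =>
      intro l hl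
      obtain ⟨h, hh, hne⟩ := ih (l + 1) (by omega)
      obtain ⟨x, hx, m, hm, h', hh', rfl⟩ := hh
      refine ⟨h', hh', ?_⟩
      rw [pow_succ, ← mul_assoc]
      refine d.extend hk hb hx hm ?_ ?_ hy hyS hn hbad
      · have := d.P_add hh' (d.P_pow hy hn j)
        rwa [show l + j = k by omega] at this
      · rwa [← mul_assoc]
  obtain ⟨h, hh, hne⟩ := key (k + 1) 0 (Nat.zero_add _)
  obtain rfl : h = 1 := hh
  rwa [one_mul] at hne

/-- elements of `Q` which commute with `Q` modulo `R` -/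
def modQ (R : Subgroup G) (hR : R ≤ centralizer (d.X : Set G)) : Subgroup G where
  carrier := {w | w ∈ d.Q ∧ ∀ z ∈ d.Q, ⁅w, z⁆ ∈ R}
  one_mem' := ⟨one_mem _, fun z _ => by rw [commutatorElement_one_left]; exact one_mem _⟩
  mul_mem' := by
    rintro a b ⟨ha, ha'⟩ ⟨hb, hb'⟩
    refine ⟨mul_mem ha hb, fun z hz => ?_⟩
    have e := mem_centralizer_iff.1 (hR (hb' z hz)) a (d.QX ha)
    have : ⁅a * b, z⁆ = ⁅b, z⁆ * ⁅a, z⁆ :=
      calc ⁅a * b, z⁆ = a * ⁅b, z⁆ * a⁻¹ * ⁅a, z⁆ := by simp only [commutatorElement_def]; group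
        _ = _ := by rw [e]; group
    rw [this]
    exact mul_mem (hb' z hz) (ha' z hz)
  inv_mem' := by
    rintro a ⟨ha, ha'⟩
    refine ⟨inv_mem ha, fun z hz => ?_⟩
    have e := mem_centralizer_iff.1 (hR (inv_mem (ha' z hz))) a (d.QX ha)
    have : ⁅a⁻¹, z⁆ = ⁅a, z⁆⁻¹ :=
      calc ⁅a⁻¹, z⁆ = a⁻¹ * (⁅a, z⁆⁻¹ * a) := by simp only [commutatorElement_def]; group
        _ = _ := by rw [← e]; group
    rw [this]
    exact inv_mem (ha' z hz)

/-- elements of `X` centralizing `k` modulo `V` -/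
def fixMod (k : G) : Subgroup G where
  carrier := {g | g ∈ d.X ∧ ⁅k, g⁆ ∈ d.V}
  one_mem' := ⟨one_mem _, by rw [commutatorElement_one_right]; exact one_mem _⟩
  mul_mem' := by
    rintro a b ⟨ha, ha'⟩ ⟨hb, hb'⟩
    refine ⟨mul_mem ha hb, ?_⟩
    rw [show ⁅k, a * b⁆ = ⁅k, a⁆ * (a * ⁅k, b⁆ * a⁻¹) by simp only [commutatorElement_def]; group]
    exact mul_mem ha' ((mem_normalizer_iff.1 (d.nV ha) _).1 hb')
  inv_mem' := by
    rintro a ⟨ha, ha'⟩
    refine ⟨inv_mem ha, ?_⟩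
    rw [show ⁅k, a⁻¹⁆ = a⁻¹ * ⁅k, a⁆⁻¹ * a⁻¹⁻¹ by simp only [commutatorElement_def]; group]
    exact (mem_normalizer_iff.1 (d.nV (inv_mem ha)) _).1 (inv_mem ha')

theorem case_two {y n : G} (hy : y ∈ d.X) (hyS : cj y d.S ≠ d.S) (hn : n ∈ normalizer (d.S : Set G))
    (hmin : d.Low 2) (hHS : cj (y * n) d.S = cj y d.S)
    (f1 : cj ((y * n) ^ 2) d.V ⊔ d.Q = cj y d.S)
    (f1' : cj ((y * n) ^ 2) d.V ⊓ d.Q ≤ cj ((y * n) ^ 2) (d.V ⊓ centralizer (d.S : Set G)))
    (f2 : ⁅d.V, cj ((y * n) ^ 2) d.V⁆ = cj y ⁅d.V, d.S⁆)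
    (f3 : d.V ⊔ cj ((y * n) ^ 2) d.Q = cj ((y * n) ^ 2) d.S)
    (f4 : ⁅d.V, cj ((y * n) ^ 2) d.V⁆ = cj ((y * n) ^ 2) ⁅d.V, d.S⁆)
    (hR1 : cj (y * n) ⁅d.V, d.S⁆ ≤ centralizer (d.X : Set G) ∧ cj (y * n) ⁅d.V, d.S⁆ ≤ d.V) : False := by
  set H := y * n with hH
  set R := ⁅d.V, d.S⁆ with hRdef
  set A := cj H⁻¹ d.V with hA
  set B := cj H d.V with hB
  have hHP : H ∈ d.P 1 := d.P_one hy hn
  have hAQ : A ≤ d.Q := d.low_inv hmin (by omega : 1 < 2) hHP
  have hBQ : B ≤ d.Q := hmin 1 (by omega) H hHP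
  have hS : cj H⁻¹ (cj y d.S) = d.S := by rw [← hHS, cj_inv_left]
  have hyR : cj y R = cj (H ^ 2) R := f2.symm.trans f4
  have hyRV : cj y R ≤ d.V := (cj_mono y d.R_le_Z).trans (d.cj_V hy).le
  have hR1' : cj H⁻¹ (cj y R) = cj H R := by rw [hyR, ← cj_mul, pow_two, inv_mul_cancel_left]
  have hQy : d.Q ≤ cj y d.S := d.Q_le_cjS hy
  have hAS : ⁅A, d.S⁆ = cj H R := by
    conv_lhs => rw [← hS, hA, ← cj_comm, ← d.cj_V hy, ← cj_comm, ← hRdef]
    exact hR1'
  have hBS : ⁅B, cj y d.S⁆ = cj H R := by rw [← hHS, hB, ← cj_comm]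
  have hAB1 : A ⊔ B ≤ d.modQ (cj H R) hR1.1 := by
    refine sup_le (fun a ha => ⟨hAQ ha, fun z hz => ?_⟩) (fun a ha => ⟨hBQ ha, fun z hz => ?_⟩)
    · rw [← hAS]; exact commutator_mem_commutator ha (d.hQS hz)
    · rw [← hBS]; exact commutator_mem_commutator ha (hQy hz)
  set W : Subgroup G := ⨆ x : ↥d.X, cj (x : G) (A ⊔ B) with hW
  have hW1 : W ≤ d.modQ (cj H R) hR1.1 := by
    refine iSup_le fun x => ?_
    rintro _ ⟨w, hw, rfl⟩
    obtain ⟨hwQ, hw'⟩ := hAB1 hw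
    refine ⟨(mem_normalizer_iff.1 (d.nQ x.2) w).1 hwQ, fun z hz => ?_⟩
    change ⁅(x : G) * w * (x : G)⁻¹, z⁆ ∈ _
    have hz' : (x : G)⁻¹ * z * (x : G) ∈ d.Q := by
      simpa using (mem_normalizer_iff.1 (d.nQ (inv_mem x.2)) z).1 hz
    have e := mem_centralizer_iff.1 (hR1.1 (hw' _ hz')) (x : G) x.2
    have : ⁅(x : G) * w * (x : G)⁻¹, z⁆ = ⁅w, (x : G)⁻¹ * z * (x : G)⁆ :=
      calc ⁅(x : G) * w * (x : G)⁻¹, z⁆
          = (x : G) * ⁅w, (x : G)⁻¹ * z * (x : G)⁆ * (x : G)⁻¹ := by simp only [commutatorElement_def]; group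
        _ = _ := by rw [e]; group
    rw [this]
    exact hw' _ hz'
  have hWQ : W ≤ d.Q := fun w hw => (hW1 hw).1
  have hABW : A ⊔ B ≤ W := by
    refine le_trans ?_ (le_iSup _ (1 : ↥d.X))
    simp [cj_one]
  have hWX : d.X ≤ normalizer (W : Set G) := by
    refine le_normalizer_of_forall fun x hx => ?_
    rw [hW, cj, Subgroup.map_iSup]
    refine iSup_le fun z => ?_
    refine le_trans (le_of_eq (cj_mul x (z : G) (A ⊔ B)).symm) ?_
    exact le_iSup (fun z : ↥d.X => cj (z : G) (A ⊔ B)) ⟨x * z, mul_mem hx z.2⟩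
  have hWW : ∀ a ∈ W, ∀ b ∈ W, ⁅a, b⁆ ∈ cj H R := fun a ha b hb => (hW1 ha).2 b (hWQ hb)
  have hWfix : ∀ k ∈ W, d.Q ≤ d.fixMod k := fun k hk z hz => ⟨d.QX hz, hR1.2 ((hW1 hk).2 z hz)⟩
  have hS2 : cj (H ^ 2)⁻¹ d.V ⊔ d.Q = d.S := by
    have := congrArg (cj (H ^ 2)⁻¹) f3
    rwa [cj_sup, cj_inv_left, cj_inv_left] at this
  have hH1 : ∀ k ∈ W, k ∈ cj H⁻¹ d.Q → d.S ≤ d.fixMod k := by
    intro k hk hk1
    rw [← hS2]
    refine sup_le (fun a ha => ⟨d.hSX (hS2.le (mem_sup_left ha)), ?_⟩) (hWfix k hk)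
    have hk2 : k ∈ cj (H ^ 2)⁻¹ (cj y d.S) := by
      rw [pow_two, mul_inv_rev, cj_mul, hS]
      exact cj_mono _ d.hQS hk1
    have h1 : cj (H ^ 2)⁻¹ ⁅cj y d.S, d.V⁆ = R := by
      rw [commutator_comm]
      conv_lhs => rw [← d.cj_V hy, ← cj_comm, ← hRdef, hyR, cj_inv_left]
    refine d.R_le_Z ?_
    rw [← hRdef, ← h1, cj_comm]
    exact commutator_mem_commutator hk2 ha
  have hH2 : ∀ k ∈ W, k ∈ cj H d.Q → cj y d.S ≤ d.fixMod k := by
    intro k hk hk1
    rw [← f1]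
    refine sup_le (fun a ha => ⟨d.cjS_le hy (f1.le (mem_sup_left ha)), ?_⟩) (hWfix k hk)
    have hk2 : k ∈ cj (H ^ 2) d.S := by
      rw [pow_two, cj_mul, hHS]
      exact cj_mono _ hQy hk1
    refine hyRV ?_
    rw [hyR, hRdef, commutator_comm, cj_comm]
    exact commutator_mem_commutator hk2 ha
  have hAS' : A ≤ cj H d.X :=
    (hAQ.trans (hQy.trans hHS.ge)).trans (cj_mono _ d.hSX)
  have key : ∀ u ∈ A, d.X ≤ d.fixMod u → u ∈ cj H d.Q := by
    intro u hu hfx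
    refine mem_cj.2 (d.hC ⟨mem_cj.1 (hAS' hu), mem_centralizer_iff.2 fun v hv => ?_⟩)
    have huw : ∀ w ∈ B, u * w = w * u := by
      intro w hw
      have hw' : y⁻¹ * w * y ∈ cj n d.V := by
        have := mem_cj.1 hw
        rw [mem_cj]
        simpa [hH, mul_assoc] using this
      have hnn : cj (H * n) d.V ≤ d.Q := by
        refine hmin 1 (by omega) _ ?_
        rw [hH, mul_assoc]
        exact d.P_one hy (mul_mem hn hn)
      have huV : H * u * H⁻¹ ∈ d.V := by simpa [mul_assoc] using mem_cj.1 hu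
      have h1 : H * (y⁻¹ * w * y) * H⁻¹ ∈ cj (H * n) d.V := by
        rw [cj_mul]; exact conj_mem_cj hw'
      have e1 : u * (y⁻¹ * w * y) = (y⁻¹ * w * y) * u := by
        have e := d.commute_of_le hnn h1 huV
        calc u * (y⁻¹ * w * y) = H⁻¹ * ((H * u * H⁻¹) * (H * (y⁻¹ * w * y) * H⁻¹)) * H := by group
          _ = H⁻¹ * ((H * (y⁻¹ * w * y) * H⁻¹) * (H * u * H⁻¹)) * H := by rw [e]
          _ = _ := by group
      have hc := (hfx hy).2
      have e2 := d.commute_of_le hBQ hw hc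
      calc u * w = ⁅u, y⁆ * (y * (u * (y⁻¹ * w * y)) * y⁻¹) := by simp only [commutatorElement_def]; group
        _ = ⁅u, y⁆ * w * (y * u * y⁻¹) := by rw [e1]; group
        _ = w * ⁅u, y⁆ * (y * u * y⁻¹) := by rw [e2]
        _ = w * u := by simp only [commutatorElement_def]; group
    have e := huw (H * v * H⁻¹) (conj_mem_cj hv)
    calc v * (H⁻¹ * u * H) = H⁻¹ * ((H * v * H⁻¹) * u) * H := by group
      _ = H⁻¹ * (u * (H * v * H⁻¹)) * H := by rw [e]
      _ = H⁻¹ * u * H * v := by group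
  have hAB : ⁅A, B⁆ ≤ cj H (centralizer (d.X : Set G)) := by
    rw [commutator_le]
    intro u hu w hw
    by_cases huQ : u ∈ cj H d.Q
    · have : ⁅u, w⁆ = 1 := by
        rw [commutatorElement_eq_one_iff_mul_comm]
        have := cj_mono H d.hQV huQ
        rw [cj_centralizer] at this
        exact (mem_centralizer_iff.1 this w hw).symm
      rw [this]; exact one_mem _
    set U2 := cj (H ^ 2) d.V with hU2
    set N0 : Subgroup ↥d.S := (cj H⁻¹ d.Q).subgroupOf d.S with hN0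
    haveI : N0.Normal := by
      refine normal_subgroupOf_of_le_normalizer ?_
      rw [← hS]
      exact cj_le_normalizer ((d.cjS_le hy).trans d.nQ) _
    have hU2X : U2 ≤ d.X := (le_sup_left.trans f1.le).trans (d.cjS_le hy)
    have huW : u ∈ W := hABW (mem_sup_left hu)
    have hU2W : U2 ≤ cj H W := by
      rw [hU2, pow_two, cj_mul]
      exact cj_mono _ (le_sup_right.trans hABW)
    have hxW : ∀ v ∈ U2, ⁅u, v⁆ ∈ W := fun v hv => by
      rw [show ⁅u, v⁆ = u * (v * u⁻¹ * v⁻¹) by simp only [commutatorElement_def]; group]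
      exact mul_mem huW ((mem_normalizer_iff.1 (hWX (hU2X hv)) _).1 (inv_mem huW))
    have huH : ∀ v ∈ U2, u * v * u⁻¹ ∈ cj H W := fun v hv =>
      (mem_normalizer_iff.1 (cj_le_normalizer hWX H (hAS' hu)) v).1 (hU2W hv)
    have hxH : ∀ v ∈ U2, ⁅u, v⁆ ∈ cj H d.Q := fun v hv =>
      cj_mono H hWQ (mul_mem (huH v hv) (inv_mem (hU2W hv)))
    have hVN : d.V ≤ cj H⁻¹ d.Q := by
      rw [← cj_le_iff H, cj_inv_right]
      exact hmin 1 (by omega) H hHP
    let f : ↥U2 →* ↥d.S ⧸ N0 :=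
      { toFun := fun v => QuotientGroup.mk (⟨⁅u, (v : G)⁆, d.hQS (hWQ (hxW v v.2))⟩ : ↥d.S)
        map_one' := by
          refine (QuotientGroup.eq_one_iff _).2 (mem_subgroupOf.2 ?_)
          simp
        map_mul' := fun a b => by
          rw [← QuotientGroup.mk_mul, QuotientGroup.eq, mem_subgroupOf]
          have hc := ((hH2 _ (hxW b b.2) (hxH b b.2)) (f1.le (mem_sup_left a.2))).2
          have e : (((⟨⁅u, ((a * b : ↥U2) : G)⁆, d.hQS (hWQ (hxW _ (a * b).2))⟩ : ↥d.S)⁻¹ *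
              (⟨⁅u, (a : G)⁆, d.hQS (hWQ (hxW a a.2))⟩ * ⟨⁅u, (b : G)⁆, d.hQS (hWQ (hxW b b.2))⟩) : ↥d.S) : G)
              = (a : G) * ⁅u, (b : G)⁆⁻¹ * (a : G)⁻¹ * ⁅u, (b : G)⁆ := by
            simp only [Subgroup.coe_mul, Subgroup.coe_inv, commutatorElement_def]; group
          rw [e, show (a : G) * ⁅u, (b : G)⁆⁻¹ * (a : G)⁻¹ * ⁅u, (b : G)⁆ = ⁅(a : G), ⁅u, (b : G)⁆⁻¹⁆ by
            simp only [commutatorElement_def]; group]
          refine hVN ?_
          have hVn := d.nV (d.QX (hWQ (hxW b b.2)))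
          rw [show ⁅(a : G), ⁅u, (b : G)⁆⁻¹⁆ = ⁅u, (b : G)⁆⁻¹ * ⁅⁅u, (b : G)⁆, (a : G)⁆ * ⁅u, (b : G)⁆⁻¹⁻¹ by
            simp only [commutatorElement_def]; group]
          exact (mem_normalizer_iff.1 (inv_mem hVn) _).1 hc }
    have hker : f.ker.map U2.subtype ≤ U2 ⊓ d.Q := by
      rintro _ ⟨v, hv, rfl⟩
      refine ⟨v.2, by_contra fun hvQ => huQ (key u hu ?_)⟩
      have hv1 : ⁅u, (v : G)⁆ ∈ cj H⁻¹ d.Q := mem_subgroupOf.1 ((QuotientGroup.eq_one_iff _).1 hv)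
      have hSu := hH1 u huW (cj_mono H⁻¹ d.hVQ hu)
      set v' : G := (v : G) with hv'
      have hvS : cj v'⁻¹ d.S ≠ d.S := by
        intro heq
        refine hvQ ?_
        have ha := mem_cj.1 (f1.le (mem_sup_left v.2))
        have := d.ti y⁻¹ (inv_mem hy)
          (fun h => hyS (by conv_lhs => rw [← h]; rw [cj_inv_right])) _ ha ?_
        · change v' ∈ d.Q
          have h2 := (mem_normalizer_iff.1 (d.nQ hy) _).1 this
          simpa [mul_assoc] using h2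
        · have h1 : v' ∈ normalizer (d.S : Set G) := by
            rw [← inv_mem_iff]
            refine mem_normalizer_iff.2 fun z => ⟨fun hz => heq.le (conj_mem_cj hz), fun hz => ?_⟩
            have := mem_cj.1 (heq.ge hz)
            simpa [mul_assoc] using this
          refine mem_normalizer_iff.2 fun z => ?_
          rw [mem_cj, mem_cj, mem_normalizer_iff.1 h1 _]
          simp [v', mul_assoc]
      rw [← d.gen v'⁻¹ (inv_mem (hU2X v.2)) hvS]
      refine sup_le hSu ?_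
      rintro _ ⟨g, hg, rfl⟩
      change v'⁻¹ * g * v'⁻¹⁻¹ ∈ _
      have hk1 : v' * u * v'⁻¹ = ⁅u, v'⁆⁻¹ * u := by simp only [commutatorElement_def]; group
      have hkW : v' * u * v'⁻¹ ∈ W := (mem_normalizer_iff.1 (hWX (hU2X v.2)) u).1 huW
      obtain ⟨hgX, hg'⟩ := hH1 _ hkW (hk1 ▸ mul_mem (inv_mem hv1) (cj_mono H⁻¹ d.hVQ hu)) hg
      refine ⟨mul_mem (mul_mem (inv_mem (hU2X v.2)) hgX) (by simpa using hU2X v.2), ?_⟩
      rw [show ⁅u, v'⁻¹ * g * v'⁻¹⁻¹⁆ = v'⁻¹ * ⁅v' * u * v'⁻¹, g⁆ * v'⁻¹⁻¹ by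
        simp only [commutatorElement_def]; group]
      exact (mem_normalizer_iff.1 (d.nV (inv_mem (hU2X v.2))) _).1 hg'
    have hsurj : Function.Surjective f := by
      rw [← MonoidHom.range_eq_top]
      refine Subgroup.eq_top_of_le_card _ ?_
      set c := Nat.card ↥(d.V ⊓ centralizer (d.S : Set G)) with hc
      have h2 : Nat.card f.ker ≤ c := by
        rw [← card_map_of_injective U2.subtype_injective]
        exact ((Nat.card_mono (Set.toFinite _) (SetLike.coe_subset_coe.2 (hker.trans f1'))).trans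
          (card_cj _ _).le)
      have h3 : Nat.card f.range * Nat.card f.ker = Nat.card U2 := by
        rw [← index_ker, index_mul_card]
      rw [card_cj, d.cV, ← hc] at h3
      have h4 : N0.index * Nat.card d.Q = d.q * Nat.card d.Q := by
        rw [← d.cS, ← index_mul_card N0]
        congr 1
        rw [hN0, Nat.card_congr (subgroupOfEquivOfLe ?_).toEquiv, card_cj]
        rw [← hS]
        exact cj_mono _ hQy
      rw [← index_eq_card, Nat.eq_of_mul_eq_mul_right Nat.card_pos h4]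
      refine Nat.le_of_mul_le_mul_right (c := c) ?_ Nat.card_pos
      rw [← h3]
      exact Nat.mul_le_mul_left _ h2
    obtain ⟨⟨v, hv⟩, hfv⟩ := hsurj (QuotientGroup.mk ⟨w, d.hQS (hBQ hw)⟩)
    have hz : ⁅u, v⁆⁻¹ * w ∈ cj H⁻¹ d.Q := by
      have := QuotientGroup.eq.1 hfv
      simpa [hN0, mem_subgroupOf] using this
    have huinv : u⁻¹ = u := inv_eq_of_mul_eq_one_right (by
      have := d.inv _ (mem_cj.1 hu)
      calc u * u = H⁻¹ * ((H * u * H⁻¹) * (H * u * H⁻¹)) * H := by group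
        _ = 1 := by rw [show H * u * H⁻¹ * (H * u * H⁻¹) = 1 by simpa [mul_assoc] using this]; group)
    have hvinv : v⁻¹ = v := inv_eq_of_mul_eq_one_right (by
      have := d.inv _ (mem_cj.1 hv)
      calc v * v = H ^ 2 * (((H ^ 2)⁻¹ * v * H ^ 2) * ((H ^ 2)⁻¹ * v * H ^ 2)) * (H ^ 2)⁻¹ := by group
        _ = 1 := by rw [this]; group)
    have hzu : Commute u (⁅u, v⁆⁻¹ * w) := by
      have := cj_mono H⁻¹ d.hQV hz
      rw [cj_centralizer] at this
      exact mem_centralizer_iff.1 this u hu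
    have e1 : ⁅u, w⁆ = ⁅u, ⁅u, v⁆⁆ :=
      calc ⁅u, w⁆ = u * ⁅u, v⁆ * ((⁅u, v⁆⁻¹ * w) * u⁻¹) * w⁻¹ := by
            simp only [commutatorElement_def]; group
        _ = u * ⁅u, v⁆ * (u⁻¹ * (⁅u, v⁆⁻¹ * w)) * w⁻¹ := by rw [hzu.inv_left.eq]
        _ = ⁅u, ⁅u, v⁆⁆ := by simp only [commutatorElement_def]; group
    have hsq : ⁅u * v * u⁻¹, v⁆ ∈ cj H (centralizer (d.X : Set G)) := by
      obtain ⟨a, ha, ea⟩ := huH v hv
      obtain ⟨b, hb, eb⟩ := hU2W hv
      rw [← ea, ← eb, ← map_commutatorElement]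
      exact mem_map_of_mem _ (hR1.1 (hWW a ha b hb))
    rw [e1]
    have e2 : ⁅u, ⁅u, v⁆⁆ = ⁅u * v * u⁻¹, v⁆⁻¹ := by
      simp only [commutatorElement_def, huinv, hvinv, mul_inv_rev]
      have hu2 : ∀ z, u * (u * z) = z := fun z => by
        rw [← mul_assoc, show u * u = 1 by nth_rw 2 [← huinv]; exact mul_inv_cancel u, one_mul]
      simp only [mul_assoc, hu2]
    rw [e2]
    exact inv_mem hsq
  apply d.hR
  rw [← hRdef, ← cj_le_iff H]
  refine le_trans (le_of_eq ?_) hAB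
  have : cj H⁻¹ ⁅d.V, cj (H ^ 2) d.V⁆ = ⁅A, B⁆ := by
    rw [cj_comm, ← cj_mul, pow_two, inv_mul_cancel_left]
  rw [← this, f4, ← cj_mul, pow_two, inv_mul_cancel_left]

/-- the conclusion -/
theorem exists_outside (hRS : ⁅d.V, d.S⁆ ≤ centralizer (d.S : Set G)) :
    ∃ m ∈ normalizer (d.S : Set G), ¬ cj m d.V ≤ d.Q := by
  by_contra hcon
  push Not at hcon
  classical
  have hb0 := d.exists_dist
  obtain ⟨hex, hmin⟩ : (∃ g ∈ d.P (Nat.find hb0), ¬ cj g d.V ≤ d.Q) ∧ d.Low (Nat.find hb0) :=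
    ⟨Nat.find_spec hb0, fun k hk g hg => by_contra fun h => Nat.find_min hb0 hk ⟨g, hg, h⟩⟩
  revert hex hmin
  generalize Nat.find hb0 = b
  intro hex hmin
  have hb2 : 2 ≤ b := by
    by_contra hlt
    obtain ⟨g, hg, hne⟩ := hex
    interval_cases b
    · obtain rfl : g = 1 := hg
      exact hne (by rw [cj_one]; exact d.hVQ)
    · obtain ⟨x, hx, m, hm, h, hh, rfl⟩ := hg
      obtain rfl : h = 1 := hh
      rw [mul_one, cj_mul] at hne
      exact hne ((cj_mono x (hcon m hm)).trans (d.cj_Q hx).le)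
  obtain ⟨k, rfl⟩ : ∃ k, b = k + 1 := ⟨b - 1, by omega⟩
  have hk : 1 ≤ k := by omega
  obtain ⟨n, hn, hbad⟩ := d.exists_bad
  obtain ⟨y, hy, hyS⟩ := d.move
  have hcrit := d.periodic hk hmin hex hy hyS hn hbad
  set H := y * n with hH
  set R := ⁅d.V, d.S⁆ with hRdef
  have hHS : cj H d.S = cj y d.S := by rw [hH, cj_mul, cj_eq_of_mem hn]
  have hHP : H ∈ d.P 1 := d.P_one hy hn
  have hU : cj (H ^ (k + 1)) d.V ≤ cj y d.S := by
    rw [pow_succ', hH]; exact d.front hmin hy hn (d.P_pow hy hn k)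
  have hV := d.back hmin (d.P_pow hy hn (k + 1))
  obtain ⟨f1, f2, f1'⟩ := d.full hy hU hV hcrit
  obtain ⟨f3, f4⟩ := d.full' hy hU hV hcrit
  have hUX := hU.trans (d.cjS_le hy)
  have hgenX : d.X ≤ d.S ⊔ cj (H ^ (k + 1)) d.V := by
    rw [← d.gen y hy hyS, ← f1]
    exact sup_le le_sup_left (sup_le le_sup_right (d.hQS.trans le_sup_left))
  -- a second critical pair through the clique of `S`
  have hleft : ¬ cj n d.V ≤ cj (H ^ k) d.Q := by
    intro hle
    apply hbad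
    refine hgenX.trans (sup_le ?_ ?_)
    · refine le_normalizer_of_forall fun s hs => ?_
      rw [cj_sup, d.cj_V (d.hSX hs), ← cj_mul, show s * n = n * (n⁻¹ * s * n) by group, cj_mul,
        d.cj_V (d.hSX ?_)]
      simpa using (mem_normalizer_iff.1 (inv_mem hn) s).1 hs
    · refine le_normalizer_of_forall fun u hu => ?_
      rw [cj_sup, d.cj_V (hUX hu)]
      refine sup_le le_sup_left ?_
      rintro _ ⟨z, hz, rfl⟩
      change u * z * u⁻¹ ∈ _
      have hz' : z ∈ cj (H ^ (k + 1)) d.S := by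
        rw [pow_succ, cj_mul, hHS, ← cj_mul]
        have := hle hz
        rw [← d.cj_Q hy, ← cj_mul] at this
        exact cj_mono _ d.hQS this
      have h1 : ⁅u, z⁆ ∈ d.V := by
        have : ⁅u, z⁆ ∈ cj (H ^ (k + 1)) R := by
          rw [hRdef, cj_comm]; exact commutator_mem_commutator hu hz'
        rw [← f4] at this
        refine (commutator_le.2 fun v hv w hw => ?_ : ⁅d.V, cj (H ^ (k + 1)) d.V⁆ ≤ d.V) this
        rw [commutatorElement_def, mul_assoc, mul_assoc]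
        exact mul_mem hv
          (by simpa [mul_assoc] using (mem_normalizer_iff.1 (d.nV (hUX hw)) v⁻¹).1 (inv_mem hv))
      rw [show u * z * u⁻¹ = ⁅u, z⁆ * z by rw [commutatorElement_def]; group]
      exact mul_mem (mem_sup_left h1) (mem_sup_right hz)
  have hgP : n⁻¹ * H ^ k ∈ d.P (k + 1) := ⟨1, one_mem _, n⁻¹, inv_mem hn, H ^ k, d.P_pow hy hn k, by group⟩
  have hU' : cj (n⁻¹ * H ^ k) d.V ≤ cj 1 d.S := by
    have := d.front hmin (one_mem d.X) (inv_mem hn) (d.P_pow hy hn k)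
    rwa [one_mul] at this
  have hV' := d.back hmin hgP
  have hne' : ¬ cj (n⁻¹ * H ^ k) d.V ≤ d.Q := by
    intro h
    apply hleft
    rw [cj_le_iff', ← cj_mul]
    intro v hv
    have hvX : v ∈ cj (n⁻¹ * H ^ k) d.X := cj_mono _ d.hSX (hV' hv)
    have : cj (n⁻¹ * H ^ k) (d.X ⊓ centralizer (d.V : Set G)) ≤ cj (n⁻¹ * H ^ k) d.Q := cj_mono _ d.hC
    refine this ?_
    rw [mem_cj]
    refine ⟨mem_cj.1 hvX, ?_⟩
    refine mem_centralizer_iff.2 fun u hu => ?_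
    have e := d.commute_of_le h (conj_mem_cj hu) hv
    set g := n⁻¹ * H ^ k
    calc u * (g⁻¹ * v * g) = g⁻¹ * ((g * u * g⁻¹) * v) * g := by group
      _ = g⁻¹ * (v * (g * u * g⁻¹)) * g := by rw [e]
      _ = g⁻¹ * v * g * u := by group
  obtain ⟨-, g2, -⟩ := d.full (one_mem d.X) hU' hV' hne'
  obtain ⟨-, g4⟩ := d.full' (one_mem d.X) hU' hV' hne'
  rw [cj_one, g4] at g2
  have hnR : cj n R = cj (H ^ k) R := by
    rw [hRdef]
    conv_lhs => rw [← g2, ← cj_mul, mul_inv_cancel_left]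
  have hnZ := (d.Z_fixed hn).2 hRS
  have hcommHb : cj (H ^ (k + 1)) d.V ≤ centralizer (cj (H ^ k) d.V : Set G) := by
    rw [pow_succ, cj_mul, ← cj_centralizer]
    exact cj_mono _ ((hmin 1 (by omega) H hHP).trans d.hQV)
  have hnC : cj n R ≤ centralizer (d.X : Set G) := by
    rw [le_centralizer_iff]
    refine hgenX.trans (sup_le ?_ ?_)
    · rw [le_centralizer_iff]; exact hnZ.trans inf_le_right
    · exact hcommHb.trans (centralizer_le (by rw [hnR]; exact cj_mono _ d.R_le_Z))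
  have hfix : ∀ x ∈ d.X, ∀ K : Subgroup G, K ≤ centralizer (d.X : Set G) → cj x K = K := by
    intro x hx K hK
    refine cj_eq_of_mem (mem_normalizer_iff.2 fun z => ?_)
    constructor
    · intro hz
      rwa [show x * z * x⁻¹ = z by rw [mem_centralizer_iff.1 (hK hz) x hx]; group]
    · intro hz
      have e := mem_centralizer_iff.1 (hK hz) x hx
      have : z = x * z * x⁻¹ := by
        calc z = x⁻¹ * (x * z * x⁻¹ * x) := by group
          _ = x⁻¹ * (x * (x * z * x⁻¹)) := by rw [e]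
          _ = x * z * x⁻¹ := by group
      rwa [← this] at hz
  have hHR : cj H R = cj (H ^ k) R := by rw [← hnR, hH, cj_mul, hfix y hy _ hnC]
  rcases Nat.lt_or_ge k 2 with hlt | hge
  · obtain rfl : k = 1 := by omega
    refine d.case_two hy hyS hn hmin hHS f1 f1' f2 f3 f4 ?_
    rw [cj_mul, hfix y hy _ hnC]
    exact ⟨hnC, hnZ.trans inf_le_left⟩
  · obtain ⟨j, rfl⟩ : ∃ j, k = j + 1 := ⟨k - 1, by omega⟩
    have hR' : R = cj (H ^ j) R := by
      conv_lhs => rw [← cj_inv_left H R, hHR, pow_succ', ← cj_mul, inv_mul_cancel_left]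
    apply d.hR
    rw [← hRdef, le_centralizer_iff]
    refine hgenX.trans (sup_le ?_ ?_)
    · rw [le_centralizer_iff]; exact hRS
    · refine le_trans ?_ (centralizer_le (show (R : Set G) ⊆ cj (H ^ j) d.V by
        rw [hR']; exact cj_mono _ d.R_le_Z))
      rw [show j + 1 + 1 = j + 2 from rfl, pow_add, cj_mul, ← cj_centralizer]
      exact cj_mono _ ((hmin 2 (by omega) _ (d.P_pow hy hn 2)).trans d.hQV)

end Amb

end Cfsg.Lib.BGN
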